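import Cfsg.Agent.Lib.Blocks.SecondMain

/-!
Sums over a group by 2-sections.
-/

set_option autoImplicit false
set_option linter.unusedSectionVars false
set_option linter.style.haveILetI false

namespace Cfsg.Agent.SylowSplit

open Cfsg Cfsg.Agent.Blocks Cfsg.Agent.Char
open scoped ComplexConjugate

universe u

variable {G : Type u} [Group G]

theorem exists_two_part [Finite G] (g : G) : ∃ y, IsPPart 2 g y :=
  haveI := Fintype.ofFinite G
  Blocks.exists_isPPart Nat.prime_two g

/-- The 2-part of an element. -/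
noncomputable def tp [Finite G] (g : G) : G := Classical.choose (exists_two_part g)

theorem tp_spec [Finite G] (g : G) : IsPPart 2 g (tp g) := Classical.choose_spec (exists_two_part g)

theorem tp_eq [Finite G] {g y : G} (h : IsPPart 2 g y) : tp g = y :=
  haveI := Fintype.ofFinite G
  Blocks.isPPart_unique Nat.prime_two (tp_spec g) h

theorem tp_two_elt [Finite G] (g : G) : ∃ k, orderOf (tp g) = 2 ^ k := by
  obtain ⟨s, -, -, hk, -⟩ := tp_spec g
  exact hk

theorem tp_self [Finite G] {y : G} (hy : ∃ k, orderOf y = 2 ^ k) : tp y = y :=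
  tp_eq ⟨1, mul_one y, Commute.one_right y, hy, by simp⟩

theorem tp_conj [Finite G] (g c : G) : tp (c * g * c⁻¹) = c * tp g * c⁻¹ := by
  haveI := Fintype.ofFinite G
  exact tp_eq (Blocks.IsPPart.conj (tp_spec g) c)

theorem isPPart_mul {y s : G} (hy : ∃ k, orderOf y = 2 ^ k) (hc : Commute s y)
    (hs : ¬ 2 ∣ orderOf s) : IsPPart 2 (y * s) y :=
  ⟨s, rfl, hc.symm, hy, hs⟩

variable [Fintype G]

open scoped Classical in
/-- The elements of odd order centralising `y`. -/
noncomputable def regSet (y : G) : Finset G :=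
  Finset.univ.filter fun s => Commute s y ∧ ¬ 2 ∣ orderOf s

open scoped Classical in
/-- The elements of 2-power order. -/
noncomputable def twoElts (G : Type u) [Group G] [Fintype G] : Finset G :=
  Finset.univ.filter fun y => ∃ k, orderOf y = 2 ^ k

theorem mem_regSet {y s : G} : s ∈ regSet y ↔ Commute s y ∧ ¬ 2 ∣ orderOf s := by
  classical
  simp [regSet]

theorem mem_twoElts {y : G} : y ∈ twoElts G ↔ ∃ k, orderOf y = 2 ^ k := by
  classical
  simp [twoElts]

/-- A sum over the group, section by section. -/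
theorem sum_sections {A : Type*} [AddCommMonoid A] (f : G → A) :
    ∑ g : G, f g = ∑ y ∈ twoElts G, ∑ s ∈ regSet y, f (y * s) := by
  classical
  rw [← Finset.sum_fiberwise_of_maps_to (s := Finset.univ) (t := twoElts G) (g := tp)
    (fun g _ => mem_twoElts.2 (tp_two_elt g))]
  refine Finset.sum_congr rfl fun y hy => ?_
  refine Finset.sum_bij' (fun g _ => y⁻¹ * g) (fun s _ => y * s) (fun g hg => ?_) (fun s hs => ?_)
    (fun g _ => mul_inv_cancel_left y g) (fun s _ => inv_mul_cancel_left y s) (fun g _ => ?_)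
  · obtain ⟨-, rfl⟩ := Finset.mem_filter.1 hg
    obtain ⟨s, hs, hc, -, hodd⟩ := tp_spec g
    rw [show (tp g)⁻¹ * g = s from inv_mul_eq_of_eq_mul hs.symm]
    exact mem_regSet.2 ⟨hc.symm, hodd⟩
  · obtain ⟨hc, hodd⟩ := mem_regSet.1 hs
    exact Finset.mem_filter.2 ⟨Finset.mem_univ _, tp_eq (isPPart_mul (mem_twoElts.1 hy) hc hodd)⟩
  · rw [mul_inv_cancel_left]

variable {M : Ideal AlgInt} [M.IsPrime]

/-- Characters outside the principal block sum to zero on every section. -/
theorem sum_section_eq_zero (hM : IsPModular 2 M) {χ : IrrCharacter G}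
    (hχ : χ ∉ principalBlock M G) {y : G} (hy : ∃ k, orderOf y = 2 ^ k) :
    ∑ s ∈ regSet y, (χ : G → ℂ) (y * s) = 0 := by
  classical
  set C := Subgroup.centralizer ({y} : Set G) with hC
  haveI : Fintype C := Fintype.ofFinite _
  have key : ∑ c ∈ Finset.univ.filter (fun c : C => ¬ 2 ∣ orderOf c),
      secFun y C (χ : G → ℂ) c = ∑ s ∈ regSet y, (χ : G → ℂ) (y * s) := by
    refine Finset.sum_bij (fun c _ => (c : G)) (fun c hc => ?_)
      (fun _ _ _ _ h => Subtype.ext h) (fun s hs => ?_) (fun c _ => rfl)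
    · exact mem_regSet.2 ⟨Subgroup.mem_centralizer_singleton_iff.1 c.2,
        by rw [Subgroup.orderOf_coe]; exact (Finset.mem_filter.1 hc).2⟩
    · obtain ⟨hc, hodd⟩ := mem_regSet.1 hs
      exact ⟨⟨s, Subgroup.mem_centralizer_singleton_iff.2 hc.eq⟩,
        Finset.mem_filter.2 ⟨Finset.mem_univ _, by rwa [← Subgroup.orderOf_coe]⟩, rfl⟩
  rw [← key]
  have hB : IsPBlock M (blockOf M (χ : G → ℂ)) := isPBlock_blockOf χ
  have hexp : ∀ c : C, secFun y C (χ : G → ℂ) c =
      ∑ b ∈ blocks M C, blockPart b (secFun y C (χ : G → ℂ)) c := fun c =>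
    (sum_blockPart (isClassFunction_secFun hC (IsCharacter.isClassFunction (irr_isCharacter χ))) c).symm
  simp only [hexp]
  rw [Finset.sum_comm]
  refine Finset.sum_eq_zero fun b hb => ?_
  by_cases hb0 : b = principalBlock M C
  · subst hb0
    refine Finset.sum_eq_zero fun c hc => ?_
    refine blockPart_secFun_eq_zero hM hy hC hB (self_mem_blockOf χ) (isPBlock_principalBlock M C)
      (fun hind => hχ ?_) (Finset.mem_filter.1 hc).2
    have h1 : principalBlock M C ∈ unitBlocks M (restrictElt C (blockEltR M (principalBlock M G))) := by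
      rw [unitBlocks_principal hM hy hC]; exact Finset.mem_singleton_self _
    rw [mem_unitBlocks_iff_induced' hM hy hC (isPBlock_principalBlock M G)] at h1
    rw [isInducedBlock_unique h1 hind]
    exact self_mem_blockOf χ
  · simp only [blockPart_eq_sum]
    rw [Finset.sum_comm]
    refine Finset.sum_eq_zero fun φ hφ => ?_
    rw [← Finset.mul_sum]
    have h1 := sum_regular_eq_zero hM (χ := φ) (ψ := Char.principal C) fun h => hb0 (isPBlock_eq_of_mem
      (mem_blocks.1 hb) (isPBlock_principalBlock M C) (Finset.mem_filter.1 hφ).2 (sameBlock_symm h))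
    simp only [Char.principal, map_one, mul_one] at h1
    rw [h1, mul_zero]

/-- A function of the 2-part only has no constituent outside the principal block. -/
theorem mem_principalBlock_of_sectional (hM : IsPModular 2 M) {θ : G → ℂ}
    (hθ : ∀ g, θ g = θ (tp g)) {χ : IrrCharacter G} (hne : classInner θ (χ : G → ℂ) ≠ 0) :
    χ ∈ principalBlock M G := by
  classical
  by_contra hχ
  refine hne ?_
  unfold Cfsg.classInner
  rw [sum_sections]
  refine mul_eq_zero_of_right _ (Finset.sum_eq_zero fun y hy => ?_)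
  have h1 : ∀ s ∈ regSet y, θ (y * s) * conj ((χ : G → ℂ) (y * s)) =
      θ y * conj ((χ : G → ℂ) (y * s)) := fun s hs => by
    obtain ⟨hc, hodd⟩ := mem_regSet.1 hs
    rw [hθ, tp_eq (isPPart_mul (mem_twoElts.1 hy) hc hodd)]
  rw [Finset.sum_congr rfl h1, ← Finset.mul_sum, ← map_sum,
    sum_section_eq_zero hM hχ (mem_twoElts.1 hy), map_zero, mul_zero]

end Cfsg.Agent.SylowSplit
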