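import Cfsg.Agent.Lib.SylowSplit.Basic
import Cfsg.Agent.Lib.SylowSplit.Sections
import Cfsg.Agent.Lib.Blocks.BlockOrth
import Cfsg.Agent.Lib.Blocks.RegTrExact
import Cfsg.Agent.Lib.Char.Induction
import Cfsg.Agent.Lib.BrauerSuzuki.Main

/-!
The contradiction from a small virtual character living off the sections of `R`.
-/

set_option autoImplicit false
set_option linter.unusedSectionVars false
set_option linter.style.haveILetI false

namespace Cfsg.Agent.SylowSplit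

open Cfsg Cfsg.Agent.Blocks Cfsg.Agent.Char
open scoped ComplexConjugate

universe u

/-- At most three points cannot carry the two moment conditions. -/
theorem moments_false {ι : Type*} (s : Finset ι) (hs : s.card ≤ 3) (μ ν ρ : ι → ℂ)
    (m0 : ∑ i ∈ s, μ i = 3) (m1 : ∑ i ∈ s, μ i * ρ i = 3) (m2 : ∑ i ∈ s, μ i * ρ i ^ 2 = 3)
    (n0 : ∑ i ∈ s, ν i = -1) (n1 : ∑ i ∈ s, ν i * ρ i = -1) (n2 : ∑ i ∈ s, ν i * ρ i ^ 2 = -1)
    (hρ : ∀ i ∈ s, ρ i ≠ 1) (hw : ∀ i ∈ s, μ i + 3 * ν i ≠ 0) : False := by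
  classical
  have hpart : ∀ i ∈ s, ∃ j ∈ s, j ≠ i ∧ ρ j = ρ i := by
    intro i hi
    by_contra hne
    push Not at hne
    obtain ⟨a, b, hab, hai, hbi⟩ : ∃ a b : ℂ, (∀ j ∈ s.erase i, ρ j = a ∨ ρ j = b) ∧
        ρ i ≠ a ∧ ρ i ≠ b := by
      have hc : (s.erase i).card ≤ 2 := by rw [Finset.card_erase_of_mem hi]; omega
      rcases Nat.lt_or_ge (s.erase i).card 1 with h0 | h1
      · refine ⟨ρ i + 1, ρ i + 1, fun j hj => ?_, by simp, by simp⟩
        rw [Finset.card_eq_zero.1 (show (s.erase i).card = 0 by omega)] at hj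
        exact absurd hj (Finset.notMem_empty j)
      rcases Nat.lt_or_ge (s.erase i).card 2 with h2 | h2
      · obtain ⟨x, hx⟩ := Finset.card_eq_one.1 (show (s.erase i).card = 1 by omega)
        have hxs : x ∈ s.erase i := hx ▸ Finset.mem_singleton_self x
        obtain ⟨hxi, hxs⟩ := Finset.mem_erase.1 hxs
        refine ⟨ρ x, ρ x, fun j hj => ?_, (hne x hxs hxi).symm, (hne x hxs hxi).symm⟩
        rw [hx, Finset.mem_singleton] at hj
        exact Or.inl (by rw [hj])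
      · obtain ⟨x, y, -, hxy⟩ := Finset.card_eq_two.1 (show (s.erase i).card = 2 by omega)
        obtain ⟨hxi, hxs⟩ := Finset.mem_erase.1 (hxy ▸ Finset.mem_insert_self x _ : x ∈ s.erase i)
        obtain ⟨hyi, hys⟩ := Finset.mem_erase.1
          (hxy ▸ Finset.mem_insert_of_mem (Finset.mem_singleton_self y) : y ∈ s.erase i)
        refine ⟨ρ x, ρ y, fun j hj => ?_, (hne x hxs hxi).symm, (hne y hys hyi).symm⟩
        rw [hxy, Finset.mem_insert, Finset.mem_singleton] at hj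
        rcases hj with rfl | rfl
        · exact Or.inl rfl
        · exact Or.inr rfl
    have h0 : ∑ j ∈ s, (μ j + 3 * ν j) * ((ρ j - a) * (ρ j - b)) = 0 := by
      have e : ∀ j, (μ j + 3 * ν j) * ((ρ j - a) * (ρ j - b)) =
          (μ j * ρ j ^ 2) + 3 * (ν j * ρ j ^ 2) - (a + b) * (μ j * ρ j + 3 * (ν j * ρ j))
            + a * b * (μ j + 3 * ν j) := fun j => by ring
      simp only [e, Finset.sum_add_distrib, Finset.sum_sub_distrib, ← Finset.mul_sum, m0, m1, m2,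
        n0, n1, n2]
      norm_num
    rw [Finset.sum_eq_single i (fun j hj hji => ?_) (fun h => absurd hi h)] at h0
    · exact hw i hi ((mul_eq_zero.1 h0).resolve_right
        (mul_ne_zero (sub_ne_zero.2 hai) (sub_ne_zero.2 hbi)))
    · rcases hab j (Finset.mem_erase.2 ⟨hji, hj⟩) with e | e <;> simp [e]
  have hconst : ∀ i ∈ s, ∀ j ∈ s, ρ i = ρ j := by
    intro i hi j hj
    obtain ⟨i', hi', hii, ei⟩ := hpart i hi
    obtain ⟨j', hj', hjj, ej⟩ := hpart j hj
    by_contra hne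
    have h1 : i' ≠ j := fun e => hne (by rw [← ei, e])
    have h2 : i ≠ j' := fun e => hne (by rw [← ej, e])
    have h3 : i' ≠ j' := fun e => hne (by rw [← ei, e, ej])
    have h4 : ({i, i', j, j'} : Finset ι) ⊆ s := by
      intro x hx
      simp only [Finset.mem_insert, Finset.mem_singleton] at hx
      rcases hx with rfl | rfl | rfl | rfl <;> assumption
    have h5 := Finset.card_le_card h4
    have hij : i ≠ j := fun e => hne (by rw [e])
    rw [Finset.card_insert_of_notMem (by simp [Ne.symm hii, hij, h2]),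
      Finset.card_insert_of_notMem (by simp [h1, h3]), Finset.card_pair (Ne.symm hjj)] at h5
    omega
  obtain ⟨i, hi⟩ : s.Nonempty := Finset.nonempty_iff_ne_empty.2 fun e => by simp [e] at m0
  rw [Finset.sum_congr rfl fun j hj => by rw [hconst j hj i hi], ← Finset.sum_mul, m0] at m1
  exact hρ i hi (mul_left_cancel₀ (show (3 : ℂ) ≠ 0 by norm_num) (by rw [m1, mul_one]))

variable {G : Type u} [Group G] [Fintype G]

/-- The group algebra identity in averaged form. -/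
theorem sum_weighted (c : IrrCharacter G → ℂ) (g h : G) :
    ∑ χ : IrrCharacter G, c χ * ((χ : G → ℂ) g * (χ : G → ℂ) h / (χ : G → ℂ) 1) =
      (Nat.card G : ℂ)⁻¹ * ∑ j : G, ∑ χ : IrrCharacter G, c χ * (χ : G → ℂ) (j⁻¹ * g * j * h) := by
  rw [Finset.sum_comm, Finset.mul_sum]
  refine Finset.sum_congr rfl fun χ _ => ?_
  have hG : (Nat.card G : ℂ) ≠ 0 := Nat.cast_ne_zero.2 Nat.card_pos.ne'
  rw [← Finset.mul_sum, irr_sum_conj_mul]
  field_simp

theorem average_const {f : G → ℂ} {v : ℂ} (h : ∀ j, f j = v) :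
    (Nat.card G : ℂ)⁻¹ * ∑ j : G, f j = v := by
  have hG : (Nat.card G : ℂ) ≠ 0 := Nat.cast_ne_zero.2 Nat.card_pos.ne'
  rw [Finset.sum_congr rfl fun j _ => h j, Finset.sum_const, Finset.card_univ, nsmul_eq_mul,
    ← Nat.card_eq_fintype_card, ← mul_assoc, inv_mul_cancel₀ hG, one_mul]

/-- The contradiction. -/
theorem false_of_theta {P : Sylow 2 G} {R : Subgroup G} (S : Closed P R) {a₀ r : G}
    (ha : orderOf a₀ = 2) (hr : orderOf r = 2) (hrR : r ∈ R)
    (hsimple : ∀ N : Subgroup G, N.Normal → r ∈ N → N = ⊤)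
    (hiso : ∀ a ρ : G, IsConj a₀ a → InR R ρ → orderOf ρ = 2 → Commute a ρ →
      ∀ g : G, Commute g (a * ρ) → Commute a (g * a * g⁻¹) → g * a * g⁻¹ = a)
    {θ : G → ℂ} (hgen : IsGeneralizedCharacter G θ) (hsec : ∀ g, θ g = θ (tp g))
    (h0 : ∀ y, InR R y → θ y = 0)
    (h4 : ∀ a ρ : G, IsConj a₀ a → InR R ρ → ρ * ρ = 1 → Commute a ρ → θ (a * ρ) = 4)
    (hone : classInner θ (fun _ => 1) = 1) (hnorm : ∃ n : ℕ, n ≤ 4 ∧ classInner θ θ = n) :
    False := by
  classical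
  haveI : Fact (Nat.Prime 2) := ⟨Nat.prime_two⟩
  obtain ⟨M, hM⟩ := Cfsg.Agent.Blocks.exists_isPModular_witness 2
  haveI : M.IsPrime := hM.2.1.isPrime
  have hsum : ∀ x y : G, orderOf x = 2 → orderOf y = 2 → InR R y → ∃ z w b : G,
      x * y = z * w ∧ tp (x * y) = z ∧ z = x * b ∧ IsConj y b ∧ Commute x b ∧ Commute w z ∧
        x * w * x⁻¹ = w⁻¹ ∧ Odd (orderOf w) := by
    intro x y hx hy hyR
    obtain ⟨z, w, b, e1, e2, e3, e4, e5, e6, e7, e8⟩ := S.product_form hx hy hyR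
    exact ⟨z, w, b, e1, tp_eq e2, e3, e4, e5, e6, e7, e8⟩
  have hconjR : ∀ {b : G}, IsConj r b → InR R b ∧ orderOf b = 2 := by
    intro b hb
    obtain ⟨k, rfl⟩ := isConj_iff.1 hb
    exact ⟨(InR.of_mem hrR).conj k, (BrauerSuzuki.orderOf_conj_eq k r).trans hr⟩
  have hθa : θ a₀ = 4 := by
    have := h4 a₀ 1 (IsConj.refl a₀) (InR.of_mem (one_mem R)) (one_mul 1) (Commute.one_right a₀)
    rwa [mul_one] at this
  have hθr : θ r = 0 := h0 r (InR.of_mem hrR)
  have hθ1 : θ 1 = 0 := h0 1 (InR.of_mem (one_mem R))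
  -- the values on the two kinds of products
  have hzr : ∀ a ρ x : G, IsConj a₀ a → InR R ρ → orderOf ρ = 2 → Commute a ρ → IsConj r x →
      θ (a * ρ * x) = 4 := by
    intro a ρ x hca hρ hρ2 hc hx
    obtain ⟨hxR, hx2⟩ := hconjR hx
    have hao : orderOf a = 2 := by
      obtain ⟨k, rfl⟩ := isConj_iff.1 hca
      exact (BrauerSuzuki.orderOf_conj_eq k a₀).trans ha
    have hzo : orderOf (a * ρ) = 2 := by
      refine orderOf_two ?_ fun e => ?_
      · rw [hc.symm.mul_mul_mul_comm, mul_self_of_two hao, mul_self_of_two hρ2, one_mul]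
      · have h44 := h4 a ρ hca hρ (mul_self_of_two hρ2) hc
        rw [e, hθ1] at h44
        norm_num at h44
    obtain ⟨z, w, b, -, htp, hz, hb, hzb, -, -, -⟩ := hsum (a * ρ) x hzo hx2 hxR
    obtain ⟨hbR, hb2⟩ := hconjR (hx.trans hb)
    rw [hsec, htp, hz]
    set C := Subgroup.centralizer ({a * ρ} : Set G) with hC
    have hbC : b ∈ C := Subgroup.mem_centralizer_singleton_iff.2 hzb.symm.eq
    have hzC : a * ρ ∈ C := Subgroup.mem_centralizer_singleton_iff.2 rfl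
    have haC : a ∈ C := Subgroup.mem_centralizer_singleton_iff.2
      ((Commute.refl a).mul_right hc).eq
    obtain ⟨T, hT⟩ := (pGroup_pair (x := (⟨a * ρ, hzC⟩ : C)) (y := ⟨b, hbC⟩)
      ⟨1, by rw [← Subgroup.orderOf_coe]; exact hzo⟩ ⟨1, by rw [← Subgroup.orderOf_coe]; exact hb2⟩
      (by
        have e : (⟨a * ρ, hzC⟩ : C) * ⟨b, hbC⟩ * (⟨a * ρ, hzC⟩ : C)⁻¹ = ⟨b, hbC⟩ :=
          Subtype.ext (mul_inv_eq_iff_eq_mul.2 hzb.eq)
        rw [e]; exact Subgroup.mem_zpowers _)).exists_le_sylow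
    obtain ⟨T', hT'⟩ := (isPGroup_zpowers (x := (⟨a, haC⟩ : C))
      ⟨1, by rw [← Subgroup.orderOf_coe]; exact hao⟩).exists_le_sylow
    obtain ⟨c, hc'⟩ := MulAction.exists_smul_eq C T' T
    have hm : c * ⟨a, haC⟩ * c⁻¹ ∈ (T : Subgroup C) := by
      rw [← hc', Sylow.coe_subgroup_smul]
      exact Subgroup.smul_mem_pointwise_smul _ (MulAut.conj c) _ (hT' (Subgroup.mem_zpowers _))
    have hTp : IsPGroup 2 ((T : Subgroup C).map C.subtype) := T.2.map _
    have ha'T : (c : G) * a * (c : G)⁻¹ ∈ (T : Subgroup C).map C.subtype :=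
      ⟨_, hm, by simp⟩
    have hzT : a * ρ ∈ (T : Subgroup C).map C.subtype :=
      ⟨_, hT (Subgroup.mem_sup_left (Subgroup.mem_zpowers _)), rfl⟩
    have hbT : b ∈ (T : Subgroup C).map C.subtype :=
      ⟨_, hT (Subgroup.mem_sup_right (Subgroup.mem_zpowers _)), rfl⟩
    have hcz : (c : G) * (a * ρ) * (c : G)⁻¹ = a * ρ :=
      mul_inv_eq_iff_eq_mul.2 (Subgroup.mem_centralizer_singleton_iff.1 c.2)
    obtain ⟨a', ha'⟩ : ∃ a', a' = (c : G) * a * (c : G)⁻¹ := ⟨_, rfl⟩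
    obtain ⟨ρ', hρ'⟩ : ∃ ρ', ρ' = (c : G) * ρ * (c : G)⁻¹ := ⟨_, rfl⟩
    have hprod : a * ρ = a' * ρ' := by rw [ha', hρ', conj_mul, hcz]
    have hρ'T : ρ' ∈ (T : Subgroup C).map C.subtype := by
      have e : ρ' = a'⁻¹ * (a * ρ) := by rw [hprod, inv_mul_cancel_left]
      rw [e, ha']
      exact mul_mem (inv_mem ha'T) hzT
    rw [← ha'] at ha'T
    have hρ'R : InR R ρ' := hρ' ▸ hρ.conj _
    have hbc : Commute b ρ' := S.commute_of_pGroup hTp hbT hρ'T hbR
    rw [hprod, mul_assoc]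
    refine h4 a' (ρ' * b) (hca.trans (isConj_iff.2 ⟨c, ha'.symm⟩)) (S.inR_mul hρ'R hbR hbc.symm) ?_
      ((S.commute_of_pGroup hTp hρ'T ha'T hρ'R).symm.mul_right
        (S.commute_of_pGroup hTp hbT ha'T hbR).symm)
    rw [hbc.mul_mul_mul_comm, mul_self_of_two hb2,
      mul_self_of_two (show orderOf ρ' = 2 by rw [hρ', BrauerSuzuki.orderOf_conj_eq, hρ2]), one_mul]
  have hrr : ∀ x : G, IsConj r x → θ (x * r) = 0 := by
    intro x hx
    obtain ⟨hxR, hx2⟩ := hconjR hx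
    obtain ⟨z, w, b, -, htp, hz, hb, hc, -⟩ := hsum x r hx2 hr (InR.of_mem hrR)
    rw [hsec, htp, hz]
    exact h0 _ (S.inR_mul hxR (hconjR hb).1 hc)
  have har : ∀ a : G, IsConj a₀ a → ∃ z w b : G, a * r = z * w ∧ tp (a * r) = z ∧ z = a * b ∧
      InR R b ∧ orderOf b = 2 ∧ Commute a b ∧ ∀ χ ∈ principalBlock M G,
        (χ : G → ℂ) (a * r) = (χ : G → ℂ) z := by
    intro a hca
    have hao : orderOf a = 2 := by
      obtain ⟨k, rfl⟩ := isConj_iff.1 hca
      exact (BrauerSuzuki.orderOf_conj_eq k a₀).trans ha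
    obtain ⟨z, w, b, hab, htp, hz, hb, hc, hwz, hinv, hwo⟩ := hsum a r hao hr (InR.of_mem hrR)
    obtain ⟨hbR, hb2⟩ := hconjR hb
    refine ⟨z, w, b, hab, htp, hz, hbR, hb2, hc, fun χ hχ => ?_⟩
    set C := Subgroup.centralizer ({z} : Set G) with hC
    haveI : Fintype C := Fintype.ofFinite _
    have haC : a ∈ C := Subgroup.mem_centralizer_singleton_iff.2 (by
      rw [hz]; exact ((Commute.refl a).mul_right hc).eq)
    have hwC : w ∈ C := Subgroup.mem_centralizer_singleton_iff.2 hwz.eq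
    have hZ : InZStar 2 (⟨a, haC⟩ : C) := by
      refine BrauerSuzuki.zStar C ⟨a, haC⟩ (by rw [← Subgroup.orderOf_coe]; exact hao) fun g hg => ?_
      refine Subtype.ext (hiso a b hca hbR hb2 hc (g : G) ?_ ?_)
      · rw [← hz]; exact Subgroup.mem_centralizer_singleton_iff.1 g.2
      · simpa using hg.map C.subtype
    have hwO := mem_pPrimeCore_of_inverted (w := (⟨w, hwC⟩ : C)) hZ (Subtype.ext hinv)
      (by rw [← Subgroup.orderOf_coe]; exact hwo)
    haveI : (pPrimeCore 2 C).Normal := Cfsg.Agent.FittingCores.pPrimeCore_normal 2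
    have hzo : ∃ k, orderOf z = 2 ^ k := htp ▸ tp_two_elt _
    rw [hab]
    exact irr_section_of_kernel hM hzo rfl hχ (pPrimeCore 2 C)
      (fun h => Nat.prime_two.coprime_iff_not_dvd.1
        (Cfsg.Agent.FittingCores.pPrimeCore_coprime (G := C) 2).symm h) hwO
  -- the expansion
  obtain ⟨c, hc, hcoef⟩ := IsGeneralizedCharacter.exists_coeff hgen
  have hθ : ∀ g, ∑ χ : IrrCharacter G, (c χ : ℂ) * (χ : G → ℂ) g = θ g := fun g => by
    conv_rhs => rw [hc]
    simp [Finset.sum_apply]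
  have hB : ∀ χ : IrrCharacter G, c χ ≠ 0 → χ ∈ principalBlock M G := fun χ hne =>
    mem_principalBlock_of_sectional hM hsec (by rw [hcoef]; exact_mod_cast hne)
  set ρ : IrrCharacter G → ℂ := fun χ => (χ : G → ℂ) r / (χ : G → ℂ) 1 with hρdef
  have hc1 : c (Char.principal G) = 1 := by
    have h := hcoef (Char.principal G)
    rw [show ((Char.principal G : IrrCharacter G) : G → ℂ) = fun _ => 1 from rfl, hone] at h
    exact_mod_cast h.symm
  obtain ⟨n, hn, hnorm⟩ := hnorm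
  rw [IsGeneralizedCharacter.norm_eq hc] at hnorm
  have hsq : ∑ χ, c χ * c χ = n := by exact_mod_cast hnorm
  set s := (Finset.univ.erase (Char.principal G)).filter (fun χ => c χ ≠ 0) with hs
  have hscard : s.card ≤ 3 := by
    rw [← Finset.add_sum_erase _ _ (Finset.mem_univ (Char.principal G)), hc1] at hsq
    have h1 : (s.card : ℤ) ≤ ∑ χ ∈ Finset.univ.erase (Char.principal G), c χ * c χ := by
      calc (s.card : ℤ) = ∑ _χ ∈ s, (1 : ℤ) := by simp
        _ ≤ ∑ χ ∈ s, c χ * c χ := Finset.sum_le_sum fun χ hχ => by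
            have := mul_self_pos.mpr (Finset.mem_filter.1 hχ).2; linarith
        _ ≤ _ := Finset.sum_le_sum_of_subset_of_nonneg (Finset.filter_subset _ _)
            fun χ _ _ => mul_self_nonneg _
    have : (n : ℤ) ≤ 4 := by exact_mod_cast hn
    have : (s.card : ℤ) ≤ 3 := by linarith
    exact_mod_cast this
  have hrest : ∀ f : IrrCharacter G → ℂ, ∑ χ ∈ s, (c χ : ℂ) * f χ =
      (∑ χ, (c χ : ℂ) * f χ) - f (Char.principal G) := by
    intro f
    rw [← Finset.add_sum_erase _ _ (Finset.mem_univ (Char.principal G)), hc1, hs,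
      Finset.sum_filter_of_ne fun χ _ h => by
        intro e; exact h (by rw [e, Int.cast_zero, zero_mul])]
    push_cast
    ring
  have hd : ∀ χ : IrrCharacter G, (χ : G → ℂ) 1 ≠ 0 := irr_one_ne_zero
  -- the moments
  have E1 : ∑ χ, (c χ : ℂ) * ((χ : G → ℂ) a₀ * (χ : G → ℂ) r / (χ : G → ℂ) 1) = 4 := by
    rw [sum_weighted]
    refine average_const fun j => ?_
    rw [hθ]
    obtain ⟨z, w, b, -, htp, hz, hbR, hb2, hcb, -⟩ := har (j⁻¹ * a₀ * j) (isConj_iff.2 ⟨j⁻¹, by group⟩)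
    rw [hsec, htp, hz]
    exact h4 _ b (isConj_iff.2 ⟨j⁻¹, by group⟩) hbR (mul_self_of_two hb2) hcb
  have E2 : ∑ χ, (c χ : ℂ) * ((χ : G → ℂ) r * (χ : G → ℂ) r / (χ : G → ℂ) 1) = 0 := by
    rw [sum_weighted]
    refine average_const fun j => ?_
    rw [hθ]
    exact hrr _ (isConj_iff.2 ⟨j⁻¹, by group⟩)
  have E3 : ∑ χ, (c χ : ℂ) * ρ χ * ((χ : G → ℂ) a₀ * (χ : G → ℂ) r / (χ : G → ℂ) 1) = 4 := by
    rw [sum_weighted]
    refine average_const fun j => ?_
    obtain ⟨z, w, b, -, -, hz, hbR, hb2, hcb, hval⟩ := har (j⁻¹ * a₀ * j) (isConj_iff.2 ⟨j⁻¹, by group⟩)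
    have e : ∀ χ : IrrCharacter G, (c χ : ℂ) * ρ χ * (χ : G → ℂ) (j⁻¹ * a₀ * j * r) =
        (c χ : ℂ) * ((χ : G → ℂ) z * (χ : G → ℂ) r / (χ : G → ℂ) 1) := by
      intro χ
      by_cases h : c χ = 0
      · simp [h]
      · rw [hval χ (hB χ h)]; simp only [hρdef]; ring
    rw [Finset.sum_congr rfl fun χ _ => e χ, sum_weighted]
    refine average_const fun i => ?_
    rw [hθ]
    have hzr' := hzr (j⁻¹ * a₀ * j) b (i * r * i⁻¹) (isConj_iff.2 ⟨j⁻¹, by group⟩) hbR hb2 hcb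
      (isConj_iff.2 ⟨i, rfl⟩)
    rw [← hz] at hzr'
    rw [show i⁻¹ * z * i * r = i⁻¹ * (z * (i * r * i⁻¹)) * (i⁻¹)⁻¹ by group,
      (IsGeneralizedCharacter.isClassFunction hgen) _ _, hzr']
  -- conclude
  have hd1 : ρ (Char.principal G) = 1 := by simp [hρdef, Char.principal]
  refine moments_false s hscard (fun χ => (c χ : ℂ) * (χ : G → ℂ) a₀)
    (fun χ => (c χ : ℂ) * (χ : G → ℂ) 1) ρ ?_ ?_ ?_ ?_ ?_ ?_ (fun χ hχ => ?_) fun χ hχ => ?_
  · rw [hrest (fun χ => (χ : G → ℂ) a₀), hθ, hθa]; norm_num [Char.principal]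
  · simp only [mul_assoc]
    rw [hrest (fun χ => (χ : G → ℂ) a₀ * ρ χ)]
    rw [show (∑ χ, (c χ : ℂ) * ((χ : G → ℂ) a₀ * ρ χ)) = 4 from by
      rw [← E1]; refine Finset.sum_congr rfl fun χ _ => ?_; simp only [hρdef]; ring]
    rw [hd1]; norm_num [Char.principal]
  · simp only [mul_assoc]
    rw [hrest (fun χ => (χ : G → ℂ) a₀ * ρ χ ^ 2)]
    rw [show (∑ χ, (c χ : ℂ) * ((χ : G → ℂ) a₀ * ρ χ ^ 2)) = 4 from by
      rw [← E3]; refine Finset.sum_congr rfl fun χ _ => ?_; simp only [hρdef]; ring]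
    rw [hd1]; norm_num [Char.principal]
  · rw [hrest (fun χ => (χ : G → ℂ) 1), hθ, hθ1]; norm_num [Char.principal]
  · simp only [mul_assoc]
    rw [hrest (fun χ => (χ : G → ℂ) 1 * ρ χ)]
    rw [show (∑ χ, (c χ : ℂ) * ((χ : G → ℂ) 1 * ρ χ)) = 0 from by
      rw [← hθr, ← hθ r]; refine Finset.sum_congr rfl fun χ _ => ?_
      simp only [hρdef]; rw [mul_div_cancel₀ _ (hd χ)]]
    rw [hd1]; norm_num [Char.principal]
  · simp only [mul_assoc]
    rw [hrest (fun χ => (χ : G → ℂ) 1 * ρ χ ^ 2)]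
    rw [show (∑ χ, (c χ : ℂ) * ((χ : G → ℂ) 1 * ρ χ ^ 2)) = 0 from by
      rw [← E2]; refine Finset.sum_congr rfl fun χ _ => ?_
      have := hd χ
      simp only [hρdef]; field_simp]
    rw [hd1]; norm_num [Char.principal]
  · intro e
    refine BrauerSuzuki.false_of_value_eq χ (Finset.mem_erase.1 (Finset.mem_filter.1 hχ).1).1 hsimple ?_
    simp only [hρdef, div_eq_one_iff_eq (hd χ)] at e
    exact e
  · intro e
    have hne : (c χ : ℂ) ≠ 0 := Int.cast_ne_zero.2 (Finset.mem_filter.1 hχ).2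
    have e1 : (χ : G → ℂ) a₀ = -(3 * (χ : G → ℂ) 1) := by
      apply mul_left_cancel₀ hne; linear_combination e
    obtain ⟨d, π, -, hπe⟩ := χ.2
    have h1 := Cfsg.Agent.Char.norm_char_le π a₀
    rw [hπe, e1, norm_neg, norm_mul] at h1
    have h2 : (χ : G → ℂ) 1 = (Module.finrank ℂ (Fin d → ℂ) : ℂ) := by
      rw [← hπe, Representation.char_one]
    rw [h2] at h1
    have hpos : (0 : ℝ) < (Module.finrank ℂ (Fin d → ℂ) : ℝ) := by
      have hne0 := hd χ
      rw [h2] at hne0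
      exact_mod_cast Nat.pos_of_ne_zero (fun h => hne0 (by simp [h]))
    norm_num at h1
    simp only [Module.finrank_pi, Fintype.card_fin] at h1 hpos
    nlinarith

end Cfsg.Agent.SylowSplit
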