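import Cfsg.Agent.Lib.SylowSplit.Basic
import Cfsg.Agent.Lib.SylowSplit.Sections
import Cfsg.Agent.Lib.Char.BrauerInduction

/-!
Virtual characters extending stable virtual characters of a Sylow 2-subgroup through the 2-part.
-/

set_option autoImplicit false
set_option linter.unusedSectionVars false
set_option linter.style.haveILetI false

namespace Cfsg.Agent.SylowSplit

open Cfsg Cfsg.Agent.Char

universe u

variable {G : Type u} [Group G]

/-- Three pairwise commuting elements of 2-power order lie in a common 2-group. -/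
theorem exists_pGroup_triple [Finite G] {a b c : G} (ha : ∃ k, orderOf a = 2 ^ k)
    (hb : ∃ k, orderOf b = 2 ^ k) (hc : ∃ k, orderOf c = 2 ^ k) (hab : Commute a b)
    (hac : Commute a c) (hbc : Commute b c) :
    ∃ T : Subgroup G, IsPGroup 2 T ∧ a ∈ T ∧ b ∈ T ∧ c ∈ T := by
  have hle : Subgroup.zpowers a ⊔ Subgroup.zpowers b ≤
      Subgroup.normalizer (Subgroup.zpowers c : Set G) := by
    refine sup_le ?_ ?_ <;> rw [Subgroup.zpowers_le] <;>
      refine Subgroup.centralizer_le_normalizer _ (Subgroup.mem_centralizer_iff.2 fun z hz => ?_) <;>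
      obtain ⟨i, rfl⟩ := Subgroup.mem_zpowers_iff.1 hz
    · exact (hac.zpow_right i).eq.symm
    · exact (hbc.zpow_right i).eq.symm
  exact ⟨_, IsPGroup.to_sup_of_normal_right'
      (pGroup_pair ha hb (by rw [hab.eq, mul_inv_cancel_right]; exact Subgroup.mem_zpowers b))
      (isPGroup_zpowers hc) hle,
    Subgroup.mem_sup_left (Subgroup.mem_sup_left (Subgroup.mem_zpowers a)),
    Subgroup.mem_sup_left (Subgroup.mem_sup_right (Subgroup.mem_zpowers b)),
    Subgroup.mem_sup_right (Subgroup.mem_zpowers c)⟩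

/-- The 2-part is a homomorphism on an elementary group. -/
theorem exists_tp_hom [Fintype G] {p : ℕ} (hp : p.Prime) (E : Subgroup G)
    (hE : Cfsg.IsElementary p E) : ∃ π : E →* G, ∀ e : E, π e = tp (e : G) := by
  classical
  obtain ⟨x, hx, hcop, k, hk⟩ := hE
  haveI : Fact p.Prime := ⟨hp⟩
  obtain ⟨i, m, hm, hcard⟩ := Nat.exists_eq_two_pow_mul_odd (Nat.card_pos (α := E)).ne'
  obtain ⟨N, hN1, hN2⟩ := Nat.chineseRemainder
    ((Nat.Coprime.pow_left i (Nat.coprime_two_left.2 hm)) : Nat.Coprime (2 ^ i) m) 1 0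
  have htp : ∀ e : E, tp (e : G) = ((e ^ N : E) : G) := by
    intro e
    obtain ⟨s, hs, hc, ⟨j, hj⟩, hodd⟩ := tp_spec (e : G)
    obtain ⟨y, hy⟩ : ∃ y, y = tp (e : G) := ⟨_, rfl⟩
    rw [← hy] at hs hc hj
    rw [← hy]
    have hdvd : orderOf y * orderOf s ∣ Nat.card E := by
      rw [← hc.orderOf_mul_eq_mul_orderOf_of_coprime (by
        rw [hj]; exact Nat.Coprime.pow_left _ (Nat.prime_two.coprime_iff_not_dvd.2 hodd)), hs,
        Subgroup.orderOf_coe]
      exact orderOf_dvd_natCard e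
    have hyd : orderOf y ∣ 2 ^ i := by
      have h := (dvd_mul_right _ _).trans hdvd
      rw [hcard, hj] at h
      rw [hj]
      exact (Nat.Coprime.pow_left j (Nat.coprime_two_left.2 hm)).dvd_of_dvd_mul_right h
    have hsd : orderOf s ∣ m := by
      have h := (dvd_mul_left _ _).trans hdvd
      rw [hcard] at h
      exact (Nat.Coprime.pow_right i
        (Nat.coprime_comm.1 (Nat.prime_two.coprime_iff_not_dvd.2 hodd))).dvd_of_dvd_mul_left h
    rw [SubmonoidClass.coe_pow, ← hs, hc.mul_pow]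
    have h1 : y ^ N = y := by
      conv_rhs => rw [← pow_one y]
      rw [pow_eq_pow_iff_modEq]
      exact hN1.of_dvd hyd
    have h2 : s ^ N = 1 := orderOf_dvd_iff_pow_eq_one.1 (hsd.trans (Nat.modEq_zero_iff_dvd.1 hN2))
    rw [h1, h2, mul_one]
  obtain ⟨S⟩ : Nonempty (Sylow p E) := inferInstance
  haveI : (Subgroup.zpowers x).Normal := ⟨fun z hz g => by
    rwa [Subgroup.mem_center_iff.1 (Subgroup.zpowers_le.2 hx hz) g, mul_inv_cancel_right]⟩
  have hdec : ∀ e : E, ∃ j : ℕ, ∃ s ∈ (S : Subgroup E), e = x ^ j * s := by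
    intro e
    have htop : Subgroup.zpowers x ⊔ (S : Subgroup E) = ⊤ := by
      refine Subgroup.eq_top_of_card_eq _ (Nat.dvd_antisymm (Subgroup.card_subgroup_dvd_card _) ?_)
      have hSc : Nat.card (S : Subgroup E) = p ^ k := by
        rw [S.card_eq_multiplicity, ← (Subgroup.zpowers x).index_mul_card, hk, Nat.card_zpowers,
          Nat.factorization_mul (pow_ne_zero _ hp.ne_zero) (orderOf_pos x).ne', Finsupp.add_apply,
          hp.factorization_pow, Finsupp.single_eq_same,
          Nat.factorization_eq_zero_of_not_dvd ((Nat.Prime.coprime_iff_not_dvd hp).1 hcop.symm),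
          add_zero]
      rw [← (Subgroup.zpowers x).index_mul_card, hk, Nat.card_zpowers]
      refine Nat.Coprime.mul_dvd_of_dvd_of_dvd (hcop.symm.pow_left k) ?_ ?_
      · exact hSc ▸ Subgroup.card_dvd_of_le le_sup_right
      · exact Nat.card_zpowers x ▸ Subgroup.card_dvd_of_le le_sup_left
    have he : e ∈ Subgroup.zpowers x ⊔ (S : Subgroup E) := by rw [htop]; exact Subgroup.mem_top e
    obtain ⟨z, hz, s, hs, rfl⟩ := Subgroup.mem_sup_of_normal_left.1 he
    rw [← mem_powers_iff_mem_zpowers] at hz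
    obtain ⟨j, rfl⟩ := hz
    exact ⟨j, s, hs, rfl⟩
  have hSN : ∀ s ∈ (S : Subgroup E), ∀ t ∈ (S : Subgroup E), (s * t) ^ N = s ^ N * t ^ N := by
    intro s hs t ht
    have hpN : ∀ u ∈ (S : Subgroup E), u ^ N = if p = 2 then u else 1 := by
      intro u hu
      obtain ⟨j, hj⟩ := IsPGroup.iff_orderOf.1 S.2 ⟨u, hu⟩
      rw [Subgroup.orderOf_mk] at hj
      have hd : p ^ j ∣ 2 ^ i * m := hj ▸ hcard ▸ orderOf_dvd_natCard u
      split_ifs with hp2
      · conv_rhs => rw [← pow_one u]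
        rw [pow_eq_pow_iff_modEq, hj]
        refine hN1.of_dvd ?_
        subst hp2
        exact (Nat.Coprime.pow_left j (Nat.coprime_two_left.2 hm)).dvd_of_dvd_mul_right hd
      · refine orderOf_dvd_iff_pow_eq_one.1 (dvd_trans ?_ (Nat.modEq_zero_iff_dvd.1 hN2))
        rw [hj]
        exact (Nat.Coprime.pow _ _ ((Nat.coprime_primes hp Nat.prime_two).2 hp2)).dvd_of_dvd_mul_left hd
    rw [hpN _ (mul_mem hs ht), hpN s hs, hpN t ht]
    split_ifs <;> simp
  have hmul : ∀ a b : E, (a * b) ^ N = a ^ N * b ^ N := by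
    intro a b
    obtain ⟨j, s, hs, rfl⟩ := hdec a
    obtain ⟨l, t, ht, rfl⟩ := hdec b
    have hc : ∀ (l : ℕ) (u : E), Commute (x ^ l) u := fun l u =>
      Commute.pow_left (Subgroup.mem_center_iff.1 hx u).symm l
    rw [(hc l s).symm.mul_mul_mul_comm, ← pow_add, (hc _ _).mul_pow, hSN s hs t ht,
      (hc j s).mul_pow, (hc l t).mul_pow, pow_add, (hc j (x ^ l)).mul_pow,
      ((hc l _).pow_pow N N).mul_mul_mul_comm]
  exact ⟨E.subtype.comp
    { toFun := fun e => e ^ N, map_one' := one_pow N, map_mul' := hmul }, fun e => (htp e).symm⟩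

variable [Fintype G]

/-- The extension. -/
theorem exists_sectional (P : Sylow 2 G) (f : ↥(P : Subgroup G) → ℂ)
    (hst : ∀ x y : (P : Subgroup G), IsConj (x : G) (y : G) → f x = f y)
    (hgen : IsGeneralizedCharacter (P : Subgroup G) f) :
    ∃ θ : G → ℂ, IsGeneralizedCharacter G θ ∧ (∀ g, θ g = θ (tp g)) ∧
      ∀ x : (P : Subgroup G), θ (x : G) = f x := by
  classical
  have hex : ∀ g : G, ∃ x : (P : Subgroup G), IsConj (tp g) (x : G) := fun g => by
    obtain ⟨k, hk⟩ := exists_conj_mem P (tp_two_elt g)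
    exact ⟨⟨_, hk⟩, isConj_iff.2 ⟨k, rfl⟩⟩
  choose c hc using hex
  refine ⟨fun g => f (c g), ?_, fun g => ?_, fun x => ?_⟩
  · refine isGeneralizedCharacter_of_elementary (fun g h => hst _ _ ?_) fun E p hp hE => ?_
    · refine (hc (h * g * h⁻¹)).symm.trans (IsConj.trans ?_ (hc g))
      rw [tp_conj]
      exact (isConj_iff.2 ⟨h, rfl⟩).symm
    obtain ⟨π, hπ⟩ := exists_tp_hom hp E hE
    have hT : IsPGroup 2 π.range := IsPGroup.iff_orderOf.2 fun t => by
      obtain ⟨e, he⟩ := t.2
      obtain ⟨j, hj⟩ := tp_two_elt (e : G)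
      exact ⟨j, by rw [← Subgroup.orderOf_coe, ← he, hπ, hj]⟩
    obtain ⟨k, hk⟩ := exists_conj_le P hT
    let ψ : E →* (P : Subgroup G) :=
      ((MulAut.conj k).toMonoidHom.comp π).codRestrict _ fun e => hk _ ⟨e, rfl⟩
    have e : (fun e : E => f (c (e : G))) = fun e => f (ψ e) := funext fun e => hst _ _ (by
      refine (hc (e : G)).symm.trans (isConj_iff.2 ⟨k, ?_⟩)
      show k * tp (e : G) * k⁻¹ = k * π e * k⁻¹
      rw [hπ])
    rw [e]
    exact IsGeneralizedCharacter.comp hgen ψ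
  · refine hst _ _ ?_
    have h1 := hc (tp g)
    rw [tp_self (tp_two_elt g)] at h1
    exact (hc g).symm.trans h1
  · refine hst _ _ ?_
    have h1 := hc (x : G)
    rw [tp_self (two_elt_of_mem P.2 x.2)] at h1
    exact h1.symm

end Cfsg.Agent.SylowSplit
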