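import Cfsg.Agent.Lib.SylowSplit.Basic
import Cfsg.Agent.Lib.SylowSplit.Sections

/-!
Counting the elements of a union of sections inside the centraliser of an involution.
-/

set_option autoImplicit false
set_option linter.unusedSectionVars false
set_option linter.style.haveILetI false

namespace Cfsg.Agent.SylowSplit

open Cfsg

universe u v

variable {G : Type u} [Group G] [Finite G]

/-- The shape of the centraliser of an element when an involution is isolated in it. -/
theorem exists_core_split {y a : G} (ha : orderOf a = 2) (hay : Commute a y)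
    (hiso : ∀ g : G, Commute g y → Commute a (g * a * g⁻¹) → g * a * g⁻¹ = a) :
    ∃ O : Subgroup G, (∀ o ∈ O, Commute o y) ∧
      (∀ o ∈ O, ∀ t : G, Commute t y → ¬ 2 ∣ orderOf t → ¬ 2 ∣ orderOf (o * t)) ∧
      ∀ g : G, Commute g y → ∃ o ∈ O, Commute (o⁻¹ * g) a := by
  classical
  haveI : Fact (Nat.Prime 2) := ⟨Nat.prime_two⟩
  set C := Subgroup.centralizer ({y} : Set G) with hC
  have haC : a ∈ C := Subgroup.mem_centralizer_singleton_iff.2 hay.eq
  set a' : C := ⟨a, haC⟩ with ha'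
  have ha'o : orderOf a' = 2 := by rw [← Subgroup.orderOf_coe]; exact ha
  have hZ : InZStar 2 a' := BrauerSuzuki.zStar C a' ha'o fun g hg => Subtype.ext
    (hiso (g : G) (Subgroup.mem_centralizer_singleton_iff.1 g.2) (by simpa using hg.map C.subtype))
  haveI hn : (pPrimeCore 2 C).Normal := Cfsg.Agent.FittingCores.pPrimeCore_normal 2
  have hodd : Odd (Nat.card (pPrimeCore 2 C)) :=
    Nat.coprime_two_right.1 (Cfsg.Agent.FittingCores.pPrimeCore_coprime (G := C) 2)
  refine ⟨(pPrimeCore 2 C).map C.subtype, ?_, ?_, ?_⟩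
  · rintro _ ⟨o, -, rfl⟩
    exact Subgroup.mem_centralizer_singleton_iff.1 o.2
  · rintro _ ⟨o, ho, rfl⟩ t ht hto
    have htC : t ∈ C := Subgroup.mem_centralizer_singleton_iff.2 ht.eq
    set t' : C := ⟨t, htC⟩ with ht'
    have e1 : (o * t') ^ orderOf t' ∈ pPrimeCore 2 C := by
      rw [← QuotientGroup.eq_one_iff, QuotientGroup.mk_pow, QuotientGroup.mk_mul,
        (QuotientGroup.eq_one_iff o).2 ho, one_mul, ← QuotientGroup.mk_pow, pow_orderOf_eq_one,
        QuotientGroup.mk_one]
    have e2 : orderOf (o * t') ∣ orderOf t' * Nat.card (pPrimeCore 2 C) := by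
      refine orderOf_dvd_of_pow_eq_one ?_
      rw [pow_mul]
      have := pow_card_eq_one' (G := pPrimeCore 2 C) (x := ⟨_, e1⟩)
      exact congrArg Subtype.val this
    intro h
    have h2 : 2 ∣ orderOf (o * t') := by rw [← Subgroup.orderOf_coe]; exact h
    rcases (Nat.Prime.dvd_mul Nat.prime_two).1 (h2.trans e2) with h3 | h3
    · exact hto (by rw [← Subgroup.orderOf_coe] at h3; exact h3)
    · exact (Nat.not_even_iff_odd.2 hodd) (even_iff_two_dvd.2 h3)
  · intro g hg
    have hgC : g ∈ C := Subgroup.mem_centralizer_singleton_iff.2 hg.eq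
    set g' : C := ⟨g, hgC⟩ with hg'
    set w : C := g' * a' * g'⁻¹ * a'⁻¹ with hw
    have hwO : w ∈ pPrimeCore 2 C := hZ g'
    have ha2 : a' * a' = 1 := mul_self_of_two ha'o
    have hai : a'⁻¹ = a' := inv_eq_of_mul_eq_one_right ha2
    have hinv : a' * w * a'⁻¹ = w⁻¹ := by
      rw [hw]; simp only [mul_inv_rev, inv_inv, hai, mul_assoc, ha2, mul_one]
    obtain ⟨j, hj⟩ : Odd (orderOf w) := Odd.of_dvd_nat hodd (Subgroup.orderOf_dvd_natCard _ hwO)
    set v := w ^ (j + 1) with hv
    have hvv : v * v = w := by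
      rw [hv, ← pow_add, show j + 1 + (j + 1) = orderOf w + 1 by omega, pow_succ, pow_orderOf_eq_one,
        one_mul]
    have hvinv : a' * v * a'⁻¹ = v⁻¹ := by rw [hv, ← conj_pow, hinv, inv_pow]
    refine ⟨(v : G), ⟨v, pow_mem hwO _, rfl⟩, ?_⟩
    have key : Commute (v⁻¹ * g') a' := by
      have e1 : g' * a' * g'⁻¹ = v * v * a' := by rw [hvv, hw]; group
      have e2 : v * a' = a' * v⁻¹ := by
        rw [← hvinv]; simp only [← mul_assoc, ha2, one_mul, hai]
      show v⁻¹ * g' * a' = a' * (v⁻¹ * g')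
      calc v⁻¹ * g' * a' = v⁻¹ * (g' * a' * g'⁻¹) * g' := by group
        _ = v⁻¹ * (v * v * a') * g' := by rw [e1]
        _ = v * a' * g' := by group
        _ = a' * (v⁻¹ * g') := by rw [e2, mul_assoc]
    simpa using key.map C.subtype

/-- Every regular element of the centraliser is seen once on average. -/
theorem card_regular_split [Fintype G] {y a : G} (ha : orderOf a = 2) (hay : Commute a y)
    (D : Set G) (haD : a ∈ D) (hD : ∀ c : G, Commute c y → c * a * c⁻¹ ∈ D)
    (hDc : ∀ d ∈ D, ∃ c, Commute c y ∧ c * a * c⁻¹ = d)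
    (hiso : ∀ g : G, Commute g y → Commute a (g * a * g⁻¹) → g * a * g⁻¹ = a) :
    Nat.card D * Nat.card {s : G // s ∈ regSet y ∧ Commute s a} = (regSet y).card := by
  classical
  obtain ⟨O, hOy, hOreg, hsplit⟩ := exists_core_split ha hay hiso
  have hD' : ∀ d ∈ D, ∃ o ∈ O, o * a * o⁻¹ = d := fun d hd => by
    obtain ⟨c, hc, rfl⟩ := hDc d hd
    obtain ⟨o, ho, hoc⟩ := hsplit c hc
    refine ⟨o, ho, ?_⟩
    have e : o⁻¹ * c * a * (o⁻¹ * c)⁻¹ = a := by rw [hoc.eq, mul_inv_cancel_right]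
    calc o * a * o⁻¹ = o * (o⁻¹ * c * a * (o⁻¹ * c)⁻¹) * o⁻¹ := by rw [e]
      _ = c * a * c⁻¹ := by group
  choose oD hoD hoDa using hD'
  have hreg : ∀ s ∈ regSet y, ∃ o ∈ O, Commute (o⁻¹ * s) a := fun s hs =>
    hsplit s (mem_regSet.1 hs).1
  choose oS hoS hoSa using hreg
  let CO := {c : G // c ∈ O ∧ Commute c a}
  let T := {s : G // s ∈ regSet y ∧ Commute s a}
  let R := {s : G // s ∈ regSet y}
  have hcc : ∀ {c : G}, Commute c a → c * a * c⁻¹ = a := fun h => by rw [h.eq, mul_inv_cancel_right]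
  have hcc' : ∀ {c : G}, c * a * c⁻¹ = a → Commute c a := fun h => mul_inv_eq_iff_eq_mul.1 h
  let e1 : O ≃ D × CO :=
    { toFun := fun o => (⟨(o : G) * a * (o : G)⁻¹, hD _ (hOy _ o.2)⟩,
        ⟨(oD _ (hD _ (hOy _ o.2)))⁻¹ * o, mul_mem (inv_mem (hoD _ _)) o.2, hcc' (by
          have e := hoDa _ (hD _ (hOy _ o.2))
          generalize oD _ (hD _ (hOy _ o.2)) = q at e ⊢
          calc q⁻¹ * (o : G) * a * (q⁻¹ * (o : G))⁻¹ = q⁻¹ * ((o : G) * a * (o : G)⁻¹) * q := by group
            _ = q⁻¹ * (q * a * q⁻¹) * q := by rw [e]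
            _ = a := by group)⟩)
      invFun := fun p => ⟨oD p.1 p.1.2 * p.2, mul_mem (hoD _ _) p.2.2.1⟩
      left_inv := fun o => Subtype.ext (mul_inv_cancel_left _ _)
      right_inv := fun p => by
        have e : oD p.1 p.1.2 * (p.2 : G) * a * (oD p.1 p.1.2 * (p.2 : G))⁻¹ = (p.1 : G) := by
          conv_rhs => rw [← hoDa p.1 p.1.2, ← hcc p.2.2.2]
          group
        refine Prod.ext (Subtype.ext e) (Subtype.ext ?_)
        simp only [e, inv_mul_cancel_left] }
  let e2 : O × T ≃ R × CO :=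
    { toFun := fun p =>
        have hr : (p.1 : G) * p.2 ∈ regSet y := mem_regSet.2
          ⟨(hOy _ p.1.2).mul_left (mem_regSet.1 p.2.2.1).1,
            hOreg _ p.1.2 _ (mem_regSet.1 p.2.2.1).1 (mem_regSet.1 p.2.2.1).2⟩
        (⟨_, hr⟩, ⟨(oS _ hr)⁻¹ * p.1, mul_mem (inv_mem (hoS _ _)) p.1.2, by
          have h1 := hoSa _ hr
          rw [← mul_assoc] at h1
          have h2 := h1.mul_left p.2.2.2.inv_left
          rwa [mul_inv_cancel_right] at h2⟩)
      invFun := fun p =>
        (⟨oS p.1 p.1.2 * p.2, mul_mem (hoS _ _) p.2.2.1⟩,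
          ⟨(oS p.1 p.1.2 * p.2)⁻¹ * p.1, by
            have ho : (oS p.1 p.1.2 * (p.2 : G))⁻¹ ∈ O := inv_mem (mul_mem (hoS _ _) p.2.2.1)
            have hy' := mem_regSet.1 p.1.2
            refine ⟨mem_regSet.2 ⟨(hOy _ ho).mul_left hy'.1, hOreg _ ho _ hy'.1 hy'.2⟩, ?_⟩
            rw [mul_inv_rev, mul_assoc]
            exact p.2.2.2.inv_left.mul_left (hoSa _ p.1.2)⟩)
      left_inv := fun p => by
        have e := mul_inv_cancel_left (oS ((p.1 : G) * p.2) (mem_regSet.2
          ⟨(hOy _ p.1.2).mul_left (mem_regSet.1 p.2.2.1).1,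
            hOreg _ p.1.2 _ (mem_regSet.1 p.2.2.1).1 (mem_regSet.1 p.2.2.1).2⟩)) (p.1 : G)
        refine Prod.ext (Subtype.ext e) (Subtype.ext ?_)
        simp only [e, inv_mul_cancel_left]
      right_inv := fun p => by
        refine Prod.ext (Subtype.ext (mul_inv_cancel_left _ _)) (Subtype.ext ?_)
        simp only [mul_inv_cancel_left, inv_mul_cancel_left] }
  have h1 := Nat.card_congr e1
  have h2 := Nat.card_congr e2
  rw [Nat.card_prod, Nat.card_prod, h1, Nat.card_prod] at h2
  have hR : Nat.card R = (regSet y).card := Nat.card_eq_finsetCard _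
  rw [hR] at h2
  haveI : Nonempty CO := ⟨⟨1, one_mem O, Commute.one_left a⟩⟩
  have hpos : 0 < Nat.card CO := Nat.card_pos
  exact Nat.eq_of_mul_eq_mul_left hpos (by rw [mul_comm _ (regSet y).card, ← h2]; ring)

/-- The sections related to the conjugates of an involution, counted in its centraliser. -/
theorem density_core [Fintype G] {a₀ : G} (ha : orderOf a₀ = 2) {H : Subgroup G}
    (hH : H = Subgroup.centralizer ({a₀} : Set G)) (Rel : G → G → Prop)
    (hconj : ∀ k a y : G, Rel a y → Rel (k * a * k⁻¹) (k * y * k⁻¹))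
    (hrel : ∀ a y : G, Rel a y → IsConj a₀ a ∧ Commute a y ∧ ∃ k, orderOf y = 2 ^ k)
    (huniq : ∀ T : Subgroup G, IsPGroup 2 T → ∀ a a' y : G, a ∈ T → a' ∈ T → y ∈ T → Rel a y →
      Rel a' y → a = a') :
    Nat.card {g : G // ∃ a, Rel a (tp g)} = H.index * Nat.card {h : H // Rel a₀ (tp (h : G))} := by
  classical
  haveI : Fact (Nat.Prime 2) := ⟨Nat.prime_two⟩
  have ha2 : ∀ a y : G, Rel a y → orderOf a = 2 := fun a y h => by
    obtain ⟨k, rfl⟩ := isConj_iff.1 (hrel a y h).1
    exact (BrauerSuzuki.orderOf_conj_eq k a₀).trans ha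
  -- isolation
  have hiso : ∀ a y : G, Rel a y → ∀ g : G, Commute g y → Commute a (g * a * g⁻¹) →
      g * a * g⁻¹ = a := by
    intro a y h g hg hc
    have ha' : orderOf (g * a * g⁻¹) = 2 := (BrauerSuzuki.orderOf_conj_eq g a).trans (ha2 a y h)
    have hrel' : Rel (g * a * g⁻¹) y := by
      have := hconj g a y h
      rwa [show g * y * g⁻¹ = y by rw [hg.eq, mul_inv_cancel_right]] at this
    set a' := g * a * g⁻¹
    have hpair : IsPGroup 2 (Subgroup.zpowers a ⊔ Subgroup.zpowers a' : Subgroup G) :=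
      pGroup_pair ⟨1, (ha2 a y h).trans (pow_one 2).symm⟩ ⟨1, ha'.trans (pow_one 2).symm⟩
        (by rw [hc.eq, mul_inv_cancel_right]; exact Subgroup.mem_zpowers a')
    have hle : Subgroup.zpowers a ⊔ Subgroup.zpowers a' ≤
        Subgroup.normalizer (Subgroup.zpowers y : Set G) := by
      refine sup_le ?_ ?_ <;> rw [Subgroup.zpowers_le] <;>
        refine Subgroup.centralizer_le_normalizer _ (Subgroup.mem_centralizer_iff.2 fun z hz => ?_)
      · obtain ⟨i, rfl⟩ := Subgroup.mem_zpowers_iff.1 hz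
        exact ((hrel a y h).2.1.zpow_right i).eq.symm
      · obtain ⟨i, rfl⟩ := Subgroup.mem_zpowers_iff.1 hz
        exact ((hrel a' y hrel').2.1.zpow_right i).eq.symm
    have hT := IsPGroup.to_sup_of_normal_right' hpair (isPGroup_zpowers (hrel a y h).2.2) hle
    exact (huniq _ hT a a' y (Subgroup.mem_sup_left (Subgroup.mem_sup_left (Subgroup.mem_zpowers a)))
      (Subgroup.mem_sup_left (Subgroup.mem_sup_right (Subgroup.mem_zpowers a')))
      (Subgroup.mem_sup_right (Subgroup.mem_zpowers y)) h hrel').symm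
  -- transitivity
  have htrans : ∀ a a' y : G, Rel a y → Rel a' y → ∃ c, Commute c y ∧ c * a * c⁻¹ = a' := by
    intro a a' y h h'
    set C := Subgroup.centralizer ({y} : Set G) with hC
    have hm : ∀ {x}, Rel x y → x ∈ C := fun {x} hx =>
      Subgroup.mem_centralizer_singleton_iff.2 (hrel x y hx).2.1.eq
    have hyC : y ∈ C := Subgroup.mem_centralizer_singleton_iff.2 rfl
    obtain ⟨T, hT⟩ := (isPGroup_zpowers (x := (⟨a, hm h⟩ : C))
      ⟨1, by rw [← Subgroup.orderOf_coe]; exact ha2 a y h⟩).exists_le_sylow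
    obtain ⟨T', hT'⟩ := (isPGroup_zpowers (x := (⟨a', hm h'⟩ : C))
      ⟨1, by rw [← Subgroup.orderOf_coe]; exact ha2 a' y h'⟩).exists_le_sylow
    obtain ⟨c, hc⟩ := MulAction.exists_smul_eq C T T'
    have hca : c * ⟨a, hm h⟩ * c⁻¹ ∈ (T' : Subgroup C) := by
      rw [← hc, Sylow.coe_subgroup_smul]
      exact Subgroup.smul_mem_pointwise_smul _ (MulAut.conj c) _ (hT (Subgroup.mem_zpowers _))
    have hyn : Subgroup.zpowers (⟨y, hyC⟩ : C) ≤ Subgroup.center C :=
      Subgroup.zpowers_le.2 (Subgroup.mem_center_iff.2 fun g =>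
        Subtype.ext (Subgroup.mem_centralizer_singleton_iff.1 g.2))
    haveI : (Subgroup.zpowers (⟨y, hyC⟩ : C)).Normal := ⟨fun z hz g => by
      rwa [Subgroup.mem_center_iff.1 (hyn hz) g, mul_inv_cancel_right]⟩
    have hT2 := IsPGroup.to_sup_of_normal_right (H := (T' : Subgroup C)) T'.2
      (isPGroup_zpowers (x := (⟨y, hyC⟩ : C)) (by
        obtain ⟨k, hk⟩ := (hrel a y h).2.2
        exact ⟨k, by rw [← Subgroup.orderOf_coe]; exact hk⟩))
    have hcy : (c : G) * y * (c : G)⁻¹ = y :=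
      mul_inv_eq_iff_eq_mul.2 (Subgroup.mem_centralizer_singleton_iff.1 c.2)
    refine ⟨c, Subgroup.mem_centralizer_singleton_iff.1 c.2,
      huniq _ (hT2.map C.subtype) _ a' y ⟨_, Subgroup.mem_sup_left hca, by simp⟩
        ⟨_, Subgroup.mem_sup_left (hT' (Subgroup.mem_zpowers _)), rfl⟩
        ⟨_, Subgroup.mem_sup_right (Subgroup.mem_zpowers _), rfl⟩ ?_ h'⟩
    have := hconj c a y h
    rwa [hcy] at this
  -- pairs
  let W := {g : G // ∃ a, Rel a (tp g)}
  let D : G → Set G := fun y => {a | Rel a y}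
  let Q := Σ a : {a : G // IsConj a₀ a}, {g : G // Commute g (a : G) ∧ Rel a (tp g)}
  have hWQ : Nat.card W = Nat.card Q := by
    have hW : Nat.card W = ∑ g : G, if ∃ a, Rel a (tp g) then 1 else 0 := by
      rw [Nat.card_eq_fintype_card, Fintype.card_subtype, Finset.card_filter]
    have hQ : Nat.card Q = ∑ g : G, Nat.card {a : G // Rel a (tp g) ∧ Commute g a} := by
      rw [← Nat.card_sigma]
      refine Nat.card_congr
        ⟨fun p => ⟨p.2, p.1, p.2.2.2, p.2.2.1⟩,
          fun p => ⟨⟨p.2, (hrel _ _ p.2.2.1).1⟩, p.1, p.2.2.2, p.2.2.1⟩,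
          fun p => rfl, fun p => rfl⟩
    rw [hW, hQ, sum_sections, sum_sections]
    refine Finset.sum_congr rfl fun y hy => ?_
    have htp : ∀ s ∈ regSet y, tp (y * s) = y := fun s hs =>
      tp_eq (isPPart_mul (mem_twoElts.1 hy) (mem_regSet.1 hs).1 (mem_regSet.1 hs).2)
    by_cases hex : ∃ a, Rel a y
    · obtain ⟨a, hay⟩ := hex
      rw [Finset.sum_congr rfl fun s hs => by rw [htp s hs, if_pos ⟨a, hay⟩], Finset.sum_const,
        smul_eq_mul, mul_one]
      have hcount : ∀ s ∈ regSet y, Nat.card {x : G // Rel x (tp (y * s)) ∧ Commute (y * s) x} =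
          (Finset.univ.filter fun x : G => Rel x y ∧ Commute s x).card := by
        intro s hs
        rw [htp s hs, Nat.card_eq_fintype_card, Fintype.card_subtype]
        congr 1
        ext x
        simp only [Finset.mem_filter, Finset.mem_univ, true_and]
        refine and_congr_right fun hx => ⟨fun h => ?_, fun h => (hrel x y hx).2.1.symm.mul_left h⟩
        have := (hrel x y hx).2.1.symm.inv_left.mul_left h
        rwa [inv_mul_cancel_left] at this
      rw [Finset.sum_congr rfl hcount]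
      simp only [Finset.card_filter]
      rw [Finset.sum_comm]
      have hfix : ∀ x : G, (∑ s ∈ regSet y, if Rel x y ∧ Commute s x then 1 else 0) =
          if Rel x y then Nat.card {s : G // s ∈ regSet y ∧ Commute s a} else 0 := by
        intro x
        by_cases hx : Rel x y
        · rw [if_pos hx]
          simp only [hx, true_and]
          obtain ⟨c, hc, rfl⟩ := htrans a x y hay hx
          rw [← Finset.card_filter, ← Nat.card_eq_finsetCard]
          have hci : Commute c⁻¹ y := hc.inv_left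
          have hmem : ∀ {d s : G}, Commute d y → s ∈ regSet y → d * s * d⁻¹ ∈ regSet y := by
            intro d s hd hs
            refine mem_regSet.2 ⟨(hd.mul_left (mem_regSet.1 hs).1).mul_left hd.inv_left, ?_⟩
            rw [BrauerSuzuki.orderOf_conj_eq]; exact (mem_regSet.1 hs).2
          refine Nat.card_congr
            ⟨fun s => ⟨c⁻¹ * (s : G) * c⁻¹⁻¹, hmem hci (Finset.mem_filter.1 s.2).1, ?_⟩,
              fun s => ⟨c * (s : G) * c⁻¹, Finset.mem_filter.2 ⟨hmem hc s.2.1, ?_⟩⟩,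
              fun s => Subtype.ext (by simp only [inv_inv]; group),
              fun s => Subtype.ext (by simp only [inv_inv]; group)⟩
          · have := (Finset.mem_filter.1 s.2).2.map (MulAut.conj c⁻¹).toMonoidHom
            simpa [mul_assoc] using this
          · have := s.2.2.map (MulAut.conj c).toMonoidHom
            simpa [mul_assoc] using this
        · simp [hx]
      rw [Finset.sum_congr rfl fun x _ => hfix x, ← Finset.sum_filter, Finset.sum_const, smul_eq_mul]
      have hDcard : (Finset.univ.filter fun x : G => Rel x y).card = Nat.card (D y) := by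
        rw [Nat.card_eq_fintype_card, ← Fintype.card_subtype]
        exact Fintype.card_congr (Equiv.refl _)
      rw [hDcard]
      exact (card_regular_split (ha2 a y hay) (hrel a y hay).2.1 (D y) hay
        (fun c hc => by
          have := hconj c a y hay
          rwa [hc.eq, mul_inv_cancel_right] at this)
        (fun d hd => htrans a d y hay hd) (hiso a y hay)).symm
    · rw [Finset.sum_eq_zero fun s hs => by rw [htp s hs, if_neg hex],
        Finset.sum_eq_zero fun s hs => ?_]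
      rw [htp s hs]
      haveI : IsEmpty {x : G // Rel x y ∧ Commute (y * s) x} := ⟨fun x => hex ⟨x, x.2.1⟩⟩
      exact Nat.card_of_isEmpty
  -- all fibres agree
  have hmemH : ∀ g : G, Commute g a₀ → g ∈ H := fun g hg =>
    hH ▸ Subgroup.mem_centralizer_singleton_iff.2 hg.eq
  have hHcomm : ∀ g : H, Commute (g : G) a₀ := fun g =>
    Subgroup.mem_centralizer_singleton_iff.1 (hH.le g.2)
  have hfibre : ∀ a : {a : G // IsConj a₀ a},
      Nat.card {g : G // Commute g (a : G) ∧ Rel a (tp g)} =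
        Nat.card {h : H // Rel a₀ (tp (h : G))} := by
    rintro ⟨a, hca⟩
    obtain ⟨k, rfl⟩ := isConj_iff.1 hca
    refine Nat.card_congr
      ⟨fun g => ⟨⟨k⁻¹ * (g : G) * k, hmemH _ ?_⟩, ?_⟩,
        fun h => ⟨k * (h : G) * k⁻¹, (hHcomm h.1).map (MulAut.conj k).toMonoidHom, ?_⟩,
        fun g => Subtype.ext (by group), fun h => Subtype.ext (Subtype.ext (by simp only; group))⟩
    · have := g.2.1.map (MulAut.conj k⁻¹).toMonoidHom
      simpa [mul_assoc] using this
    · show Rel a₀ (tp (k⁻¹ * (g : G) * k))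
      have := hconj k⁻¹ _ _ g.2.2
      rw [← tp_conj] at this
      rwa [inv_inv, show k⁻¹ * (k * a₀ * k⁻¹) * k = a₀ by group] at this
    · rw [tp_conj]
      exact hconj _ _ _ h.2
  have hclass : Nat.card {a : G // IsConj a₀ a} = H.index := by
    have e1 : {a : G // IsConj a₀ a} ≃ MulAction.orbit (ConjAct G) a₀ :=
      Equiv.subtypeEquivRight fun x => by
        rw [ConjAct.mem_orbit_conjAct]; exact isConj_comm
    rw [Nat.card_congr e1, Nat.card_coe_set_eq, ← MulAction.index_stabilizer,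
      ConjAct.stabilizer_eq_centralizer]
    rw [hH]; rfl
  show Nat.card W = _
  rw [hWQ, Nat.card_sigma, Finset.sum_congr rfl fun a _ => hfibre a, Finset.sum_const, smul_eq_mul,
    Finset.card_univ, ← Nat.card_eq_fintype_card, hclass]

/-- A homomorphism into a 2-group sees only the 2-part. -/
theorem map_tp {H : Subgroup G} {A : Type v} [Group A] (hA : IsPGroup 2 A) (τ : H →* A) (h : H) :
    ∃ ht : tp (h : G) ∈ H, τ h = τ ⟨tp (h : G), ht⟩ := by
  haveI : Fintype G := Fintype.ofFinite G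
  obtain ⟨s, hs, hc, ⟨j, hj⟩, hodd⟩ := tp_spec (h : G)
  obtain ⟨y, hy⟩ : ∃ y, y = tp (h : G) := ⟨_, rfl⟩
  rw [← hy] at hs hc hj
  suffices hyH : y ∈ H ∧ ∀ hyH : y ∈ H, τ h = τ ⟨y, hyH⟩ from hy ▸ ⟨hyH.1, hyH.2 hyH.1⟩
  have hyH : y ∈ H := by
    have hcop : Nat.Coprime (orderOf s) (2 ^ j) :=
      Nat.Coprime.pow_right _ (Nat.prime_two.coprime_iff_not_dvd.2 hodd).symm
    obtain ⟨e, he1, he2⟩ := Nat.chineseRemainder hcop 0 1
    have h1 : (h : G) ^ e = y := by
      rw [← hs, hc.mul_pow, show s ^ e = 1 from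
        orderOf_dvd_iff_pow_eq_one.1 (Nat.modEq_zero_iff_dvd.1 he1), mul_one]
      conv_rhs => rw [← pow_one y]
      rw [pow_eq_pow_iff_modEq, hj]
      exact he2
    exact h1 ▸ pow_mem h.2 e
  refine ⟨hyH, fun _ => ?_⟩
  have hsH : s ∈ H := by
    have : s = y⁻¹ * (h : G) := by rw [eq_inv_mul_iff_mul_eq]; exact hs
    rw [this]; exact mul_mem (inv_mem hyH) h.2
  have e : h = ⟨y, hyH⟩ * ⟨s, hsH⟩ := Subtype.ext hs.symm
  have hs1 : τ ⟨s, hsH⟩ = 1 := by
    obtain ⟨i, hi⟩ := IsPGroup.iff_orderOf.1 hA (τ ⟨s, hsH⟩)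
    have hdvd : orderOf (τ ⟨s, hsH⟩) ∣ orderOf s := by
      rw [← Subgroup.orderOf_mk s hsH]; exact orderOf_map_dvd τ _
    rcases Nat.eq_zero_or_pos i with rfl | hi0
    · exact orderOf_eq_one_iff.1 (by rw [hi, pow_zero])
    · exact absurd ((dvd_pow_self 2 hi0.ne').trans (hi ▸ hdvd)) hodd
  conv_lhs => rw [e, map_mul, hs1, mul_one]

/-- The count. -/
theorem density [Fintype G] {a₀ : G} (ha : orderOf a₀ = 2) {A : Type v} [Group A] [Finite A]
    (hA : IsPGroup 2 A) {H : Subgroup G} (hH : H = Subgroup.centralizer ({a₀} : Set G)) (τ : H →* A)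
    (hτ : Function.Surjective τ)
    (Rel : G → G → Prop) (S : Set A)
    (hconj : ∀ k a y : G, Rel a y → Rel (k * a * k⁻¹) (k * y * k⁻¹))
    (hrel : ∀ a y : G, Rel a y → IsConj a₀ a ∧ Commute a y ∧ ∃ k, orderOf y = 2 ^ k)
    (huniq : ∀ T : Subgroup G, IsPGroup 2 T → ∀ a a' y : G, a ∈ T → a' ∈ T → y ∈ T → Rel a y →
      Rel a' y → a = a')
    (hfib : ∀ y : H, (∃ k, orderOf (y : G) = 2 ^ k) →
      (Rel a₀ (y : G) ↔ τ y ∈ S)) :
    Nat.card {g : G // ∃ a, Rel a (tp g)} * Nat.card A = Nat.card G * Nat.card S := by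
  classical
  haveI : Fact (Nat.Prime 2) := ⟨Nat.prime_two⟩
  have hequiv : Nat.card {h : H // Rel a₀ (tp (h : G))} = Nat.card {h : H // τ h ∈ S} :=
    Nat.card_congr (Equiv.subtypeEquivRight fun h => by
      obtain ⟨ht, e⟩ := map_tp hA τ h
      rw [e]
      exact hfib ⟨_, ht⟩ (tp_two_elt _))
  have hfib2 : Nat.card {h : H // τ h ∈ S} = Nat.card τ.ker * Nat.card S := by
    let e : {h : H // τ h ∈ S} ≃ τ.ker × S :=
      { toFun := fun h => (⟨(Function.surjInv hτ (τ h.1))⁻¹ * h.1, by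
            rw [MonoidHom.mem_ker, map_mul, map_inv, Function.surjInv_eq hτ, inv_mul_cancel]⟩, ⟨τ h.1, h.2⟩)
        invFun := fun p => ⟨Function.surjInv hτ p.2 * p.1, by
            rw [map_mul, Function.surjInv_eq hτ, MonoidHom.mem_ker.1 p.1.2, mul_one]; exact p.2.2⟩
        left_inv := fun h => Subtype.ext (mul_inv_cancel_left _ _)
        right_inv := fun p => by
          have e : τ (Function.surjInv hτ p.2 * p.1) = p.2 := by
            rw [map_mul, Function.surjInv_eq hτ, MonoidHom.mem_ker.1 p.1.2, mul_one]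
          refine Prod.ext (Subtype.ext ?_) (Subtype.ext e)
          simp only [e, inv_mul_cancel_left] }
    rw [Nat.card_congr e, Nat.card_prod]
  have hA' : τ.ker.index = Nat.card A := by
    rw [Subgroup.index_ker, MonoidHom.range_eq_top.2 hτ, Subgroup.card_top]
  rw [density_core ha hH Rel hconj hrel huniq, hequiv, hfib2, ← hA', ← H.index_mul_card,
    ← τ.ker.index_mul_card]
  ring

end Cfsg.Agent.SylowSplit
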