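import Cfsg.Agent.Lib.SylowSplit.Core
import Cfsg.Agent.Lib.SylowSplit.Density
import Cfsg.Agent.Lib.SylowSplit.Stable
import Cfsg.Agent.Lib.SylowSplit.Transfer
import Mathlib.GroupTheory.FiniteAbelian.Duality
import Mathlib.Analysis.Complex.Polynomial.Basic
import Mathlib.RingTheory.IntegralDomain

/-!
An abelian Sylow 2-subgroup with a proper invariant direct factor fused fixed-point-freely by an
element of order three.
-/

set_option autoImplicit false
set_option linter.unusedSectionVars false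
set_option linter.style.haveILetI false

namespace Cfsg.Agent.SylowSplit

open Cfsg Cfsg.Agent.Char
open scoped ComplexConjugate IsMulCommutative

universe u

variable {G : Type u} [Group G] [Finite G]

/-- An invariant decomposition of an abelian Sylow 2-subgroup. -/
structure Split (P : Sylow 2 G) (U R : Subgroup G) (n : G) : Prop where
  comm : IsMulCommutative (P : Subgroup G)
  leU : U ≤ (P : Subgroup G)
  leR : R ≤ (P : Subgroup G)
  inf : U ⊓ R = ⊥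
  sup : ∀ x ∈ (P : Subgroup G), ∃ u ∈ U, ∃ r ∈ R, u * r = x
  normU : ∀ m ∈ Subgroup.normalizer ((P : Subgroup G) : Set G), ∀ u ∈ U, m * u * m⁻¹ ∈ U
  normR : ∀ m ∈ Subgroup.normalizer ((P : Subgroup G) : Set G), ∀ r ∈ R, m * r * m⁻¹ ∈ R
  mem : n ∈ Subgroup.normalizer ((P : Subgroup G) : Set G)
  fpf : ∀ u ∈ U, n * u * n⁻¹ = u → u = 1
  cube : ∀ u ∈ U, n * (n * (n * u * n⁻¹) * n⁻¹) * n⁻¹ = u
  powers : ∀ m ∈ Subgroup.normalizer ((P : Subgroup G) : Set G),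
    (∀ u ∈ U, m * u * m⁻¹ = u) ∨ (∀ u ∈ U, m * u * m⁻¹ = n * u * n⁻¹) ∨
      ∀ u ∈ U, m * u * m⁻¹ = n * (n * u * n⁻¹) * n⁻¹

variable {P : Sylow 2 G} {U R : Subgroup G} {n : G}

theorem Split.commute (S : Split P U R n) {x y : G} (hx : x ∈ (P : Subgroup G))
    (hy : y ∈ (P : Subgroup G)) : Commute x y :=
  congrArg Subtype.val (S.comm.is_comm.comm (⟨x, hx⟩ : (P : Subgroup G)) ⟨y, hy⟩)

theorem Split.fusion (S : Split P U R n) {x : G} (hx : x ∈ (P : Subgroup G)) {g : G}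
    (hg : g * x * g⁻¹ ∈ (P : Subgroup G)) :
    ∃ m ∈ Subgroup.normalizer ((P : Subgroup G) : Set G), g * x * g⁻¹ = m * x * m⁻¹ := by
  haveI : Fact (Nat.Prime 2) := ⟨Nat.prime_two⟩
  haveI := S.comm
  obtain ⟨m, hm, e⟩ := P.conj_eq_normalizer_conj_of_mem x g⁻¹ hx (by rwa [inv_inv])
  exact ⟨m⁻¹, inv_mem hm, by rw [inv_inv] at e ⊢; exact e⟩

theorem Split.closed (S : Split P U R n) : Closed P R :=
  ⟨S.leR, fun _ hx _ hy => S.commute (S.leR hx) hy, fun x hx g hg => by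
    obtain ⟨m, hm, e⟩ := S.fusion (S.leR hx) hg
    rw [e]
    exact S.normR m hm x hx⟩

/-- The decomposition yields the projection. -/
theorem Split.exists_proj (S : Split P U R n) : ∃ π : (P : Subgroup G) →* U,
    (∀ x : (P : Subgroup G), ((π x : U) : G)⁻¹ * (x : G) ∈ R) ∧
      (∀ x : (P : Subgroup G), ∀ u : U, (u : G)⁻¹ * (x : G) ∈ R → π x = u) := by
  have huniq : ∀ {x : G} {u u' : U}, (u : G)⁻¹ * x ∈ R → (u' : G)⁻¹ * x ∈ R → u = u' := by
    intro x u u' h h'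
    have h1 : (u : G)⁻¹ * u' ∈ U ⊓ R := by
      refine Subgroup.mem_inf.2 ⟨mul_mem (inv_mem u.2) u'.2, ?_⟩
      have := mul_mem h (inv_mem h')
      rwa [show (u : G)⁻¹ * x * ((u' : G)⁻¹ * x)⁻¹ = (u : G)⁻¹ * u' by group] at this
    rw [S.inf, Subgroup.mem_bot] at h1
    exact Subtype.ext (inv_mul_eq_one.1 h1)
  have hex : ∀ x : (P : Subgroup G), ∃ u : U, (u : G)⁻¹ * (x : G) ∈ R := fun x => by
    obtain ⟨u, hu, r, hr, e⟩ := S.sup x x.2
    exact ⟨⟨u, hu⟩, by simp only [← e, inv_mul_cancel_left]; exact hr⟩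
  choose π hπ using hex
  refine ⟨MonoidHom.mk' π fun x y => huniq (hπ (x * y)) ?_, hπ, fun x u h => huniq (hπ x) h⟩
  have h := mul_mem (hπ x) (hπ y)
  have hc : Commute ((π x : G)⁻¹ * (x : G)) (π y : G)⁻¹ :=
    (S.commute (S.leR (hπ x)) (inv_mem (S.leU (π y).2)))
  rw [show ((π x : G)⁻¹ * (x : G)) * ((π y : G)⁻¹ * (y : G)) =
      ((π x : G)⁻¹ * (x : G)) * (π y : G)⁻¹ * (y : G) by group, hc.eq] at h
  rw [Subgroup.coe_mul, mul_inv_rev]
  simpa [mul_assoc] using h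

theorem Split.semiregular (S : Split P U R n) {m : G}
    (hm : m ∈ Subgroup.normalizer ((P : Subgroup G) : Set G)) {u : G} (hu : u ∈ U) (hu1 : u ≠ 1)
    (hfix : m * u * m⁻¹ = u) : ∀ w ∈ U, m * w * m⁻¹ = w := by
  rcases S.powers m hm with h | h | h
  · exact h
  · exact absurd (S.fpf u hu (by rw [← h u hu, hfix])) hu1
  · refine absurd (S.fpf u hu ?_) hu1
    have h2 : n * (n * u * n⁻¹) * n⁻¹ = u := by rw [← h u hu, hfix]
    have := S.cube u hu
    rwa [h2] at this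

variable [IsSimpleGroup G]

/-- No simple group has such a decomposition with both factors nontrivial. -/
theorem Split.false (S : Split P U R n) (hU : U ≠ ⊥) (hR : R ≠ ⊥) : False := by
  classical
  haveI : Fact (Nat.Prime 2) := ⟨Nat.prime_two⟩
  haveI : Fintype G := Fintype.ofFinite G
  haveI : Fintype U := Fintype.ofFinite U
  have hinvol : ∀ K : Subgroup G, K ≤ (P : Subgroup G) → K ≠ ⊥ → ∃ v ∈ K, orderOf v = 2 := by
    intro K hKP hK
    haveI : Nontrivial K := (Subgroup.nontrivial_iff_ne_bot K).2 hK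
    obtain ⟨j, hj0, hj⟩ := (P.2.to_le hKP).nontrivial_iff_card.1 inferInstance
    obtain ⟨v, hv⟩ := exists_prime_orderOf_dvd_card' (G := K) 2
      (hj ▸ dvd_pow_self 2 (by omega))
    exact ⟨v, v.2, by rw [Subgroup.orderOf_coe]; exact hv⟩
  obtain ⟨v, hvU, hv⟩ := hinvol U S.leU hU
  obtain ⟨r, hrR, hr⟩ := hinvol R S.leR hR
  have hv1 : v ≠ 1 := fun e => by simp [e] at hv
  have hv2 := mul_self_of_two hv
  have hC := S.closed
  obtain ⟨π, hπ, hπu⟩ := S.exists_proj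
  have hπid : ∀ u : U, π ⟨u, S.leU u.2⟩ = u := fun u => hπu _ u (by simp)
  have hπR : ∀ x : (P : Subgroup G), π x = 1 ↔ (x : G) ∈ R := fun x =>
    ⟨fun h => by simpa [h] using hπ x, fun h => hπu x 1 (by simpa using h)⟩
  -- the three linear characters
  have hnU : ∀ u ∈ U, n * u * n⁻¹ ∈ U := S.normU n S.mem
  let σ : U →* U := MonoidHom.mk' (fun u => ⟨n * u * n⁻¹, hnU u u.2⟩) fun a b =>
    Subtype.ext (by simp only [Subgroup.coe_mul]; group)
  have hσc : ∀ u : U, (σ u : G) = n * u * n⁻¹ := fun u => rfl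
  have hσ3 : ∀ u, σ (σ (σ u)) = u := fun u => Subtype.ext (S.cube u u.2)
  have hσ1 : ∀ u, σ u = u → u = 1 := fun u h =>
    Subtype.ext (S.fpf u u.2 (congrArg Subtype.val h))
  haveI : IsMulCommutative U :=
    ⟨⟨fun a b => Subtype.ext (S.commute (S.leU a.2) (S.leU b.2)).eq⟩⟩
  set v' : U := ⟨v, hvU⟩ with hv'
  obtain ⟨χ, hχ⟩ := CommGroup.exists_apply_ne_one_of_hasEnoughRootsOfUnity U ℂ (a := v')
    (fun e => hv1 (congrArg Subtype.val e))
  have hprod : v' * σ v' * σ (σ v') = 1 := hσ1 _ (by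
    rw [map_mul, map_mul, hσ3, mul_comm _ v', ← mul_assoc])
  have hsq : ∀ w : U, w * w = 1 → (χ w : ℂ) = 1 ∨ (χ w : ℂ) = -1 := fun w hw => by
    have : (χ w : ℂ) ^ 2 = 1 := by rw [pow_two, ← Units.val_mul, ← map_mul, hw, map_one, Units.val_one]
    exact sq_eq_one_iff.1 this
  have hw2 : v' * v' = 1 := Subtype.ext hv2
  have hw3 : σ v' * σ v' = 1 := by rw [← map_mul, hw2, map_one]
  have hw4 : σ (σ v') * σ (σ v') = 1 := by rw [← map_mul, hw3, map_one]
  have hχv : (χ v' : ℂ) = -1 := (hsq v' hw2).resolve_left fun e => hχ (Units.ext e)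
  have hχp : (χ (σ v') : ℂ) * (χ (σ (σ v')) : ℂ) = -1 := by
    have h := congrArg (fun w => (χ w : ℂ)) hprod
    simp only [map_mul, Units.val_mul, map_one, Units.val_one, hχv] at h
    linear_combination -h
  obtain ⟨F, hF⟩ : ∃ F : U → ℂ, F = fun u => 3 - (χ u : ℂ) - χ (σ u) - χ (σ (σ u)) := ⟨_, rfl⟩
  have hFσ : ∀ u, F (σ u) = F u := fun u => by simp only [hF, hσ3]; ring
  have hF1 : F 1 = 0 := by simp only [hF, map_one, Units.val_one]; norm_num
  have hFv : F v' = 4 := by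
    simp only [hF, hχv]
    rcases hsq _ hw3 with e | e
    · rw [e] at hχp
      rw [e, show (χ (σ (σ v')) : ℂ) = -1 by linear_combination hχp]
      norm_num
    · rw [e] at hχp
      rw [e, show (χ (σ (σ v')) : ℂ) = 1 by linear_combination -hχp]
      norm_num
  -- sums over the factor
  have hσinj : Function.Injective σ := fun a b h => by rw [← hσ3 a, ← hσ3 b, h]
  have hσsum : ∀ f : U → ℂ, ∑ u, f (σ u) = ∑ u, f u := fun f =>
    Fintype.sum_bijective σ (Finite.injective_iff_bijective.1 hσinj) _ _ fun u => rfl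
  have hχne : (Units.coeHom ℂ).comp χ ≠ 1 := fun e => hχ (Units.ext (DFunLike.congr_fun e v'))
  have hs1 : ∑ u : U, (χ u : ℂ) = 0 := sum_hom_units_eq_zero ((Units.coeHom ℂ).comp χ) hχne
  have hconj : ∀ u : U, conj (χ u : ℂ) = ((χ u)⁻¹ : ℂˣ) := fun u => by
    rw [Units.val_inv_eq_inv_val]
    refine (Complex.inv_eq_conj ?_).symm
    refine Complex.norm_eq_one_of_pow_eq_one (n := orderOf u) ?_ (orderOf_pos u).ne'
    rw [← Units.val_pow_eq_pow_val, ← map_pow, pow_orderOf_eq_one, map_one, Units.val_one]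
  have hcross : ∀ τ : U →* U, τ v' ≠ v' → (χ (τ v') : ℂ) * χ (τ (τ v')) * χ v' = 1 →
      τ (τ (τ v')) = v' → ∑ u : U, (χ (τ u) : ℂ) * conj (χ u : ℂ) = 0 := by
    intro τ hne h3 hc
    have e : ∀ u : U, (χ (τ u) : ℂ) * conj (χ u : ℂ) = (Units.coeHom ℂ).comp ((χ.comp τ) * χ⁻¹) u := by
      intro u
      rw [hconj]
      rfl
    simp only [e]
    refine sum_hom_units_eq_zero _ fun h => ?_
    have h' : ∀ u, χ (τ u) = χ u := fun u => by
      have h2 := DFunLike.congr_fun h u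
      simp only [MonoidHom.coe_comp, Function.comp_apply, MonoidHom.mul_apply, MonoidHom.inv_apply,
        Units.coeHom_apply, MonoidHom.one_apply, Units.val_eq_one] at h2
      exact mul_inv_eq_one.1 h2
    rw [h' (τ v'), h' v', hχv] at h3
    norm_num at h3
  have hsum : ∑ u : U, F u = 3 * (Nat.card U : ℂ) := by
    simp only [hF, Finset.sum_sub_distrib, hσsum (fun u => (χ (σ u) : ℂ)), hσsum (fun u => (χ u : ℂ)),
      hs1, Finset.sum_const, Finset.card_univ, nsmul_eq_mul, Nat.card_eq_fintype_card]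
    ring
  have hnorm : ∑ u : U, F u * conj (F u) = 12 * (Nat.card U : ℂ) := by
    have hunit : ∀ u : U, (χ u : ℂ) * conj (χ u : ℂ) = 1 := fun u => by
      rw [hconj, ← Units.val_mul, mul_inv_cancel, Units.val_one]
    have h3' : (χ (σ v') : ℂ) * χ (σ (σ v')) * χ v' = 1 := by rw [hχp, hχv]; norm_num
    have c1 : ∑ u : U, (χ (σ u) : ℂ) * conj (χ u : ℂ) = 0 :=
      hcross σ (fun e => hv1 (congrArg Subtype.val (hσ1 _ e))) h3' (hσ3 _)
    have c2 : ∑ u : U, (χ u : ℂ) * conj (χ (σ u) : ℂ) = 0 := by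
      have := congrArg conj c1
      simp only [map_sum, map_mul, Complex.conj_conj, map_zero] at this
      exact (Finset.sum_congr rfl fun u _ => mul_comm _ _).trans this
    have c3 : ∑ u : U, (χ u : ℂ) * conj (χ (σ (σ u)) : ℂ) = 0 := by
      rw [← hσsum]
      simp only [hσ3]
      exact c1
    have c4 : ∑ u : U, (χ (σ (σ u)) : ℂ) * conj (χ u : ℂ) = 0 := by
      rw [← hσsum]
      simp only [hσ3]
      exact c2
    have e : ∀ u : U, F u * conj (F u) = 9 - 3 * (χ u : ℂ) - 3 * conj (χ u : ℂ)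
        - 3 * (χ (σ u) : ℂ) - 3 * conj (χ (σ u) : ℂ) - 3 * (χ (σ (σ u)) : ℂ)
        - 3 * conj (χ (σ (σ u)) : ℂ) + 3
        + (χ u : ℂ) * conj (χ (σ u) : ℂ) + (χ u : ℂ) * conj (χ (σ (σ u)) : ℂ)
        + (χ (σ u) : ℂ) * conj (χ u : ℂ) + (χ (σ u) : ℂ) * conj (χ (σ (σ u)) : ℂ)
        + (χ (σ (σ u)) : ℂ) * conj (χ u : ℂ) + (χ (σ (σ u)) : ℂ) * conj (χ (σ u) : ℂ) := by
      intro u
      simp only [hF, map_sub, map_ofNat]
      linear_combination hunit u + hunit (σ u) + hunit (σ (σ u))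
    have hsc : ∑ u : U, conj (χ u : ℂ) = 0 := by rw [← map_sum, hs1, map_zero]
    simp only [e, Finset.sum_add_distrib, Finset.sum_sub_distrib, ← Finset.mul_sum,
      hσsum (fun u => (χ (σ u) : ℂ)), hσsum (fun u => (χ u : ℂ)),
      hσsum (fun u => conj (χ (σ u) : ℂ)), hσsum (fun u => conj (χ u : ℂ)),
      hσsum (fun u => (χ u : ℂ) * conj (χ (σ u) : ℂ)),
      hσsum (fun u => (χ (σ u) : ℂ) * conj (χ u : ℂ)),
      hs1, hsc, c1, c2, c3, c4, Finset.sum_const, Finset.card_univ, nsmul_eq_mul,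
      Nat.card_eq_fintype_card]
    ring
  -- stability
  have hfus : ∀ x y : (P : Subgroup G), IsConj (x : G) (y : G) →
      π y = π x ∨ π y = σ (π x) ∨ π y = σ (σ (π x)) := by
    intro x y h
    obtain ⟨g, hg⟩ := isConj_iff.1 h
    obtain ⟨m, hm, e⟩ := S.fusion x.2 (g := g) (hg ▸ y.2)
    rw [hg] at e
    have hR' : (m * (π x : G) * m⁻¹)⁻¹ * (y : G) ∈ R := by
      rw [e, show (m * (π x : G) * m⁻¹)⁻¹ * (m * (x : G) * m⁻¹) =
        m * ((π x : G)⁻¹ * (x : G)) * m⁻¹ by group]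
      exact S.normR m hm _ (hπ x)
    have hy : π y = ⟨_, S.normU m hm _ (π x).2⟩ := hπu y _ hR'
    rcases S.powers m hm with h | h | h
    · exact Or.inl (hy.trans (Subtype.ext (h _ (π x).2)))
    · exact Or.inr (Or.inl (hy.trans (Subtype.ext (h _ (π x).2))))
    · exact Or.inr (Or.inr (hy.trans (Subtype.ext (h _ (π x).2))))
  have hgenF : IsGeneralizedCharacter ↥(P : Subgroup G) fun x => F (π x) := by
    have hl : ∀ τ : U →* U, IsGeneralizedCharacter U fun u => (χ (τ u) : ℂ) := fun τ =>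
      IsGeneralizedCharacter.of_isCharacter (IsIrrCharacter.isCharacter (isIrrCharacter_linear (χ.comp τ)))
    have h3 : IsGeneralizedCharacter U (fun _ => (3 : ℂ)) := by
      have := IsGeneralizedCharacter.int_smul (IsGeneralizedCharacter.of_isCharacter
        (isCharacter_one (G := U))) 3
      convert this using 1
      funext u; simp
    have h4 := IsGeneralizedCharacter.sub (IsGeneralizedCharacter.sub
      (IsGeneralizedCharacter.sub h3 (hl (MonoidHom.id U))) (hl σ)) (hl (σ.comp σ))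
    rw [hF]
    exact IsGeneralizedCharacter.comp h4 π
  obtain ⟨θ, hgen, hsec, hθP⟩ := exists_sectional P (fun x => F (π x))
    (fun x y h => by rcases hfus x y h with e | e | e <;> simp [e, hFσ]) hgenF
  have hcls := IsGeneralizedCharacter.isClassFunction hgen
  have hval : ∀ g k : G, ∀ hk : k * tp g * k⁻¹ ∈ (P : Subgroup G), θ g = F (π ⟨_, hk⟩) := by
    intro g k hk
    rw [← hθP, hsec g, ← hcls (tp g) k]
  -- the relations
  let Rel : U → G → G → Prop := fun y₀ a y =>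
    ∃ k : G, k * a * k⁻¹ = v ∧ ∃ hk : k * y * k⁻¹ ∈ (P : Subgroup G), π ⟨_, hk⟩ = y₀
  have hvP : v ∈ (P : Subgroup G) := S.leU hvU
  set H := Subgroup.centralizer ({v} : Set G) with hH
  have hPH : (P : Subgroup G) ≤ H := fun x hx =>
    Subgroup.mem_centralizer_singleton_iff.2 (S.commute hx hvP).eq
  let Q : Sylow 2 H := P.subtype hPH
  have hQP : ∀ x : (Q : Subgroup H), ((x : H) : G) ∈ (P : Subgroup G) := fun x => x.2
  let φ : (Q : Subgroup H) →* U := π.comp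
    (MonoidHom.mk' (fun x => ⟨((x : H) : G), hQP x⟩) fun a b => rfl)
  have hpU : IsPGroup 2 U := P.2.to_le S.leU
  have hlocal : ∀ x y : (P : Subgroup G), ∀ g ∈ H, g * (x : G) * g⁻¹ = (y : G) → π x = π y := by
    intro x y g hg hgxy
    haveI : IsMulCommutative (Q : Subgroup H) := ⟨⟨fun a b => Subtype.ext (Subtype.ext
      (S.commute (hQP a) (hQP b)).eq)⟩⟩
    obtain ⟨m, hm, e⟩ := Q.conj_eq_normalizer_conj_of_mem (⟨x, hPH x.2⟩ : H) (⟨g, hg⟩ : H)⁻¹ x.2
      (by rw [inv_inv]; show g * (x : G) * g⁻¹ ∈ (P : Subgroup G); rw [hgxy]; exact y.2)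
    have hmG : (m : G) ∈ Subgroup.normalizer ((P : Subgroup G) : Set G) := by
      refine Subgroup.mem_normalizer_iff.2 fun z => ⟨fun hz => ?_, fun hz => ?_⟩
      · exact (Subgroup.mem_normalizer_iff.1 hm ⟨z, hPH hz⟩).1 hz
      · have hzH : z ∈ H := by
          have h1 := mul_mem (mul_mem (inv_mem m.2) (hPH hz)) m.2
          simpa [mul_assoc] using h1
        exact (Subgroup.mem_normalizer_iff.1 hm ⟨z, hzH⟩).2 hz
    have e' : (y : G) = (m : G)⁻¹ * x * m := by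
      have := congrArg Subtype.val e
      simp only [inv_inv, Subgroup.coe_mul, Subgroup.coe_inv] at this
      rw [← hgxy, this]
    have hmv : (m : G)⁻¹ * v * (m : G)⁻¹⁻¹ = v := by
      rw [mul_inv_eq_iff_eq_mul]
      exact Subgroup.mem_centralizer_singleton_iff.1 (inv_mem m.2)
    have hfix := S.semiregular (inv_mem hmG) hvU hv1 hmv
    refine (hπu y (π x) ?_).symm
    rw [e', show (π x : G)⁻¹ * ((m : G)⁻¹ * x * m) = (m : G)⁻¹ * ((π x : G)⁻¹ * x) * (m : G) by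
      conv_lhs => rw [← hfix _ (π x).2]
      group]
    simpa using S.normR _ (inv_mem hmG) _ (hπ x)
  obtain ⟨τ, hτ⟩ := exists_hom_extend Q hpU φ fun x y h => by
    obtain ⟨g, hg⟩ := isConj_iff.1 h
    exact hlocal _ _ (g : G) g.2 (congrArg Subtype.val hg)
  have hτP : ∀ x : (P : Subgroup G), τ ⟨x, hPH x.2⟩ = π x := fun x => hτ ⟨⟨x, hPH x.2⟩, x.2⟩
  have hτs : Function.Surjective τ := fun u => ⟨_, (hτP ⟨u, S.leU u.2⟩).trans (hπid u)⟩
  have hrel_conj : ∀ y₀ (k a y : G), Rel y₀ a y → Rel y₀ (k * a * k⁻¹) (k * y * k⁻¹) := by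
    rintro y₀ k a y ⟨l, hl, hk, he⟩
    have e : l * k⁻¹ * (k * y * k⁻¹) * (l * k⁻¹)⁻¹ = l * y * l⁻¹ := by group
    refine ⟨l * k⁻¹, by rw [← hl]; group, by rw [e]; exact hk, ?_⟩
    rw [← he]
    congr 1
    exact Subtype.ext e
  have hrel : ∀ y₀ (a y : G), Rel y₀ a y → IsConj v a ∧ Commute a y ∧ ∃ k, orderOf y = 2 ^ k := by
    rintro y₀ a y ⟨l, hl, hk, -⟩
    refine ⟨(isConj_iff.2 ⟨l, hl⟩).symm, ?_, ?_⟩
    · have := ((S.commute hvP hk).map (MulAut.conj l⁻¹).toMonoidHom)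
      rw [← hl] at this
      simpa [mul_assoc] using this
    · obtain ⟨j, hj⟩ := two_elt_of_mem P.2 hk
      exact ⟨j, by rwa [BrauerSuzuki.orderOf_conj_eq] at hj⟩
  have huniq : ∀ y₀ : U, y₀ ≠ 1 → ∀ T : Subgroup G, IsPGroup 2 T → ∀ a a' y : G, a ∈ T → a' ∈ T →
      y ∈ T → Rel y₀ a y → Rel y₀ a' y → a = a' := by
    intro y₀ hy₀ T hT a a' y ha ha' hy h h'
    obtain ⟨q, hq⟩ := exists_conj_le P hT
    refine (MulAut.conj q).injective ?_
    show q * a * q⁻¹ = q * a' * q⁻¹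
    have key : ∀ b : G, b ∈ T → Rel y₀ b y →
        ∃ m ∈ Subgroup.normalizer ((P : Subgroup G) : Set G), m * (q * b * q⁻¹) * m⁻¹ = v ∧
          m * (π ⟨_, hq y hy⟩ : G) * m⁻¹ = y₀ := by
      intro b hb hb'
      obtain ⟨l, hl, hk, he⟩ := hrel_conj y₀ q b y hb'
      obtain ⟨m, hm, e⟩ := S.fusion (hq b hb) (g := l) (by rw [hl]; exact hvP)
      rw [hl] at e
      refine ⟨m, hm, e.symm, ?_⟩
      have hy1 : m * (q * y * q⁻¹) * m⁻¹ ∈ (P : Subgroup G) :=
        (Subgroup.mem_normalizer_iff.1 hm _).1 (hq y hy)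
      have h2 : π ⟨_, hy1⟩ = y₀ := by
        rw [← he]
        refine hlocal _ _ (l * m⁻¹) (Subgroup.mem_centralizer_singleton_iff.2 ?_) (by simp only; group)
        nth_rw 1 [e]
        rw [← hl]
        group
      have h3 : π ⟨_, hy1⟩ = ⟨_, S.normU m hm _ (π ⟨_, hq y hy⟩).2⟩ := hπu _ _ (by
        have := S.normR m hm _ (hπ ⟨_, hq y hy⟩)
        simp only at this ⊢
        rwa [show (m * (π ⟨_, hq y hy⟩ : G) * m⁻¹)⁻¹ * (m * (q * y * q⁻¹) * m⁻¹) =
          m * ((π ⟨_, hq y hy⟩ : G)⁻¹ * (q * y * q⁻¹)) * m⁻¹ by group])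
      exact congrArg Subtype.val (h3.symm.trans h2)
    obtain ⟨m, hm, hma, hmy⟩ := key a ha h
    obtain ⟨m', hm', hma', hmy'⟩ := key a' ha' h'
    obtain ⟨w, hw⟩ : ∃ w, w = (π ⟨_, hq y hy⟩ : G) := ⟨_, rfl⟩
    rw [← hw] at hmy hmy'
    have hw1 : w ≠ 1 := fun e => hy₀ (Subtype.ext (by rw [← hmy, e]; simp))
    have hfix : (m'⁻¹ * m) * w * (m'⁻¹ * m)⁻¹ = w := by
      calc (m'⁻¹ * m) * w * (m'⁻¹ * m)⁻¹ = m'⁻¹ * (m * w * m⁻¹) * m' := by group
        _ = w := by rw [hmy, ← hmy']; group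
    have hwU : w ∈ U := hw ▸ (π ⟨_, hq y hy⟩).2
    have haU : q * a * q⁻¹ ∈ U := by
      have := S.normU m⁻¹ (inv_mem hm) v hvU
      rwa [← hma, show m⁻¹ * (m * (q * a * q⁻¹) * m⁻¹) * m⁻¹⁻¹ = q * a * q⁻¹ by group] at this
    have h5 := S.semiregular (mul_mem (inv_mem hm') hm) hwU hw1 hfix _ haU
    calc q * a * q⁻¹ = (m'⁻¹ * m) * (q * a * q⁻¹) * (m'⁻¹ * m)⁻¹ := h5.symm
      _ = m'⁻¹ * (m * (q * a * q⁻¹) * m⁻¹) * m' := by group
      _ = m'⁻¹ * (m' * (q * a' * q⁻¹) * m'⁻¹) * m' := by rw [hma, hma']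
      _ = q * a' * q⁻¹ := by group
  have hfib : ∀ y₀ : U, ∀ y : H, (∃ k, orderOf (y : G) = 2 ^ k) →
      (Rel y₀ v (y : G) ↔ τ y ∈ ({y₀} : Set U)) := by
    intro y₀ y hy
    have hy' : ∃ k, orderOf y = 2 ^ k := by simpa [Subgroup.orderOf_coe] using hy
    obtain ⟨h, hh⟩ := exists_conj_mem Q hy'
    have hhv : (h : G) * v * (h : G)⁻¹ = v :=
      mul_inv_eq_iff_eq_mul.2 (Subgroup.mem_centralizer_singleton_iff.1 h.2)
    have hh' : (h : G) * y * (h : G)⁻¹ ∈ (P : Subgroup G) := hh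
    have e1 : τ y = π ⟨_, hh'⟩ := by
      rw [← hτP ⟨_, hh'⟩]
      show τ y = τ (h * y * h⁻¹)
      rw [map_mul, map_mul, map_inv, mul_inv_eq_iff_eq_mul.2]
      exact mul_comm' (τ h) (τ y)
    rw [Set.mem_singleton_iff, e1]
    refine ⟨fun hR => ?_, fun e => ⟨h, hhv, hh', e⟩⟩
    obtain ⟨l, hl, hk, he⟩ := hR
    rw [← he]
    refine hlocal _ _ (l * (h : G)⁻¹) (mul_mem (Subgroup.mem_centralizer_singleton_iff.2 ?_)
      (inv_mem h.2)) (by simp only; group)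
    exact mul_inv_eq_iff_eq_mul.1 hl
  have hcount : ∀ y₀ : U, y₀ ≠ 1 →
      Nat.card {g : G // ∃ a, Rel y₀ a (tp g)} * Nat.card U = Nat.card G := fun y₀ hy₀ => by
    rw [density hv hpU rfl τ hτs (Rel y₀) {y₀} (hrel_conj y₀) (hrel y₀) (huniq y₀ hy₀) (hfib y₀)]
    simp
  have hW : ∀ y₀ : U, ∀ g k : G, ∀ hk : k * tp g * k⁻¹ ∈ (P : Subgroup G),
      ((∃ a, Rel y₀ a (tp g)) ↔
        y₀ = π ⟨_, hk⟩ ∨ y₀ = σ (π ⟨_, hk⟩) ∨ y₀ = σ (σ (π ⟨_, hk⟩))) := by
    intro y₀ g k hk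
    constructor
    · rintro ⟨a, l, -, hk', he⟩
      rw [← he]
      exact hfus _ _ (isConj_iff.2 ⟨l * k⁻¹, by simp only; group⟩)
    · intro h
      have hn : ∀ x : (P : Subgroup G), ∃ hx : n * (x : G) * n⁻¹ ∈ (P : Subgroup G),
          π ⟨_, hx⟩ = σ (π x) := fun x => ⟨(Subgroup.mem_normalizer_iff.1 S.mem _).1 x.2, hπu _ _ (by
        have := S.normR n S.mem _ (hπ x)
        simp only [hσc]
        rwa [show (n * (π x : G) * n⁻¹)⁻¹ * (n * (x : G) * n⁻¹) =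
          n * ((π x : G)⁻¹ * (x : G)) * n⁻¹ by group])⟩
      obtain ⟨h1, e1⟩ := hn ⟨_, hk⟩
      obtain ⟨h2, e2⟩ := hn ⟨_, h1⟩
      have key : ∀ (l : G) (hl : l * tp g * l⁻¹ ∈ (P : Subgroup G)), π ⟨_, hl⟩ = y₀ →
          ∃ a, Rel y₀ a (tp g) := fun l hl he => ⟨l⁻¹ * v * l, l, by group, hl, he⟩
      rcases h with rfl | rfl | rfl
      · exact key k hk rfl
      · refine key (n * k) ?_ ?_
        · rw [show n * k * tp g * (n * k)⁻¹ = n * (k * tp g * k⁻¹) * n⁻¹ by group]; exact h1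
        · rw [← e1]; congr 1; exact Subtype.ext (by simp only; group)
      · refine key (n * (n * k)) ?_ ?_
        · rw [show n * (n * k) * tp g * (n * (n * k))⁻¹ = n * (n * (k * tp g * k⁻¹) * n⁻¹) * n⁻¹ by group]
          exact h2
        · rw [← e1, ← e2]; congr 1; exact Subtype.ext (by simp only; group)
  -- the integral of a function of the factor
  have hint : ∀ Φ : U → ℂ, Φ 1 = 0 → (∀ u, Φ (σ u) = Φ u) → ∀ ψ : G → ℂ,
      (∀ g k : G, ∀ hk : k * tp g * k⁻¹ ∈ (P : Subgroup G), ψ g = Φ (π ⟨_, hk⟩)) →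
      3 * (Nat.card U : ℂ) * ∑ g, ψ g = (Nat.card G : ℂ) * ∑ u, Φ u := by
    intro Φ hΦ1 hΦσ ψ hψ
    have h3 : ∀ g, 3 * ψ g = ∑ y₀ : U, if ∃ a, Rel y₀ a (tp g) then Φ y₀ else 0 := by
      intro g
      obtain ⟨k, hk⟩ := exists_conj_mem P (tp_two_elt g)
      rw [hψ g k hk, Finset.sum_congr rfl fun y₀ _ => if_congr (hW y₀ g k hk) rfl rfl]
      generalize π ⟨_, hk⟩ = u
      by_cases hu : u = 1
      · subst hu
        simp only [map_one, or_self, Finset.sum_ite_eq', Finset.mem_univ, if_true, hΦ1, mul_zero]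
      · rw [← Finset.sum_filter]
        have hset : (Finset.univ.filter fun y₀ => y₀ = u ∨ y₀ = σ u ∨ y₀ = σ (σ u)) =
            ({u, σ u, σ (σ u)} : Finset U) := by ext; simp
        have n1 : u ≠ σ u := fun e => hu (hσ1 u e.symm)
        have n2 : σ u ≠ σ (σ u) := fun e => n1 (hσinj e)
        have n3 : u ≠ σ (σ u) := fun e => n1 (hσ3 u ▸ congrArg σ e).symm
        rw [hset, Finset.sum_insert (by simp [n1, n3]), Finset.sum_insert (by simp [n2]),
          Finset.sum_singleton, hΦσ, hΦσ, hΦσ]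
        ring
    have h4 : ∀ y₀ : U, (Nat.card U : ℂ) * ∑ g, (if ∃ a, Rel y₀ a (tp g) then Φ y₀ else 0) =
        (Nat.card G : ℂ) * Φ y₀ := by
      intro y₀
      by_cases h0 : y₀ = 1
      · subst h0; simp [hΦ1]
      · rw [← Finset.sum_filter, Finset.sum_const, nsmul_eq_mul, ← hcount y₀ h0]
        rw [Nat.card_eq_fintype_card (α := {g : G // ∃ a, Rel y₀ a (tp g)}), Fintype.card_subtype]
        push_cast
        ring
    rw [mul_comm (3 : ℂ), mul_assoc, Finset.mul_sum, Finset.sum_congr rfl fun g _ => h3 g,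
      Finset.sum_comm, Finset.mul_sum, Finset.sum_congr rfl fun y₀ _ => h4 y₀, Finset.mul_sum]
  -- conclude
  have hU0 : (Nat.card U : ℂ) ≠ 0 := Nat.cast_ne_zero.2 Nat.card_pos.ne'
  have hG0 : (Nat.card G : ℂ) ≠ 0 := Nat.cast_ne_zero.2 Nat.card_pos.ne'
  have hone : classInner θ (fun _ => 1) = 1 := by
    have h := hint F hF1 hFσ θ hval
    rw [hsum] at h
    simp only [Cfsg.classInner, map_one, mul_one]
    rw [inv_mul_eq_one₀ hG0]
    exact (mul_left_cancel₀ (mul_ne_zero three_ne_zero hU0) (by rw [h]; ring)).symm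
  have hnorm4 : classInner θ θ = ((4 : ℕ) : ℂ) := by
    have h := hint (fun u => F u * conj (F u)) (by simp [hF1]) (fun u => by rw [hFσ])
      (fun g => θ g * conj (θ g)) fun g k hk => by rw [hval g k hk]
    rw [hnorm] at h
    simp only [Cfsg.classInner]
    rw [inv_mul_eq_iff_eq_mul₀ hG0]
    refine mul_left_cancel₀ (mul_ne_zero three_ne_zero hU0) ?_
    rw [h]; push_cast; ring
  have hsimple : ∀ N : Subgroup G, N.Normal → r ∈ N → N = ⊤ := fun N hN hrN =>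
    (hN.eq_bot_or_eq_top).resolve_left fun e => by
      rw [e, Subgroup.mem_bot] at hrN
      simp [hrN] at hr
  have hav : ∀ a ρ : G, IsConj v a → InR R ρ → Commute a ρ → ∃ k : G, k * a * k⁻¹ = v ∧
      ∃ hk : k * (a * ρ) * k⁻¹ ∈ (P : Subgroup G), π ⟨_, hk⟩ = v' := by
    intro a ρ hca hρ hc
    obtain ⟨l, rfl⟩ := isConj_iff.1 hca
    obtain ⟨k, hk1, hk2⟩ := exists_conj_mem_pair P ⟨1, by rw [BrauerSuzuki.orderOf_conj_eq, hv, pow_one]⟩
      (hC.two_elt hρ) hc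
    obtain ⟨m, hm, e⟩ := S.fusion hvP (g := k * l)
      (by rwa [show k * l * v * (k * l)⁻¹ = k * (l * v * l⁻¹) * k⁻¹ by group])
    rw [show k * l * v * (k * l)⁻¹ = k * (l * v * l⁻¹) * k⁻¹ by group] at e
    have hρR : k * ρ * k⁻¹ ∈ R := hC.mem hk2 (hρ.conj k)
    have e1 : m⁻¹ * k * (l * v * l⁻¹) * (m⁻¹ * k)⁻¹ = v := by
      calc m⁻¹ * k * (l * v * l⁻¹) * (m⁻¹ * k)⁻¹ = m⁻¹ * (k * (l * v * l⁻¹) * k⁻¹) * m := by group
        _ = v := by rw [e]; group
    have hρ' : m⁻¹ * (k * ρ * k⁻¹) * m⁻¹⁻¹ ∈ R := S.normR _ (inv_mem hm) _ hρR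
    have e2 : m⁻¹ * k * (l * v * l⁻¹ * ρ) * (m⁻¹ * k)⁻¹ = v * (m⁻¹ * (k * ρ * k⁻¹) * m⁻¹⁻¹) := by
      nth_rw 2 [← e1]
      group
    refine ⟨m⁻¹ * k, e1, by rw [e2]; exact mul_mem hvP (S.leR hρ'), hπu _ v' ?_⟩
    simp only [hv', e2, inv_mul_cancel_left]
    exact hρ'
  refine false_of_theta hC hv hr hrR hsimple ?_ hgen hsec ?_ ?_ hone ⟨4, le_rfl, hnorm4⟩
  · intro a ρ hca hρ hρ2 hc g hg hcomm
    have hrel1 : Rel v' a (a * ρ) := hav a ρ hca hρ hc
    have hrel2 : Rel v' (g * a * g⁻¹) (a * ρ) := by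
      have := hrel_conj v' g a (a * ρ) hrel1
      rwa [show g * (a * ρ) * g⁻¹ = a * ρ by rw [hg.eq, mul_inv_cancel_right]] at this
    have hao := (hrel v' _ _ hrel1).1
    have ho : ∀ b, IsConj v b → ∃ k, orderOf b = 2 ^ k := fun b hb => by
      obtain ⟨k, rfl⟩ := isConj_iff.1 hb
      exact ⟨1, by rw [BrauerSuzuki.orderOf_conj_eq, hv, pow_one]⟩
    obtain ⟨T, hT, h1, h2, h3⟩ := exists_pGroup_triple (ho a hao) (ho _ (hrel v' _ _ hrel2).1)
      (hrel v' _ _ hrel1).2.2 hcomm (hrel v' _ _ hrel1).2.1 (hrel v' _ _ hrel2).2.1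
    exact (huniq v' (fun e => hv1 (congrArg Subtype.val e)) T hT a _ _ h1 h2 h3 hrel1 hrel2).symm
  · intro y hy
    obtain ⟨k, hk⟩ := exists_conj_mem P (hC.two_elt hy)
    rw [← hcls y k, hθP ⟨_, hk⟩, (hπR _).2 (hC.mem hk (hy.conj k)), hF1]
  · intro a ρ hca hρ _ hc
    obtain ⟨k, -, hk, he⟩ := hav a ρ hca hρ hc
    rw [← hcls (a * ρ) k, hθP ⟨_, hk⟩, he, hFv]

end Cfsg.Agent.SylowSplit
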