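import Cfsg.Agent.Lib.SylowSplit.Abelian
import Cfsg.Agent.Lib.Blocks.HomocyclicChars
import Cfsg.Agent.Lib.Transfer.Fusion

/-!
An abelian Sylow 2-subgroup of a simple group has no nontrivial invariant subgroup of index four.
-/

set_option autoImplicit false
set_option linter.unusedSectionVars false
set_option linter.style.haveILetI false

namespace Cfsg.Agent.SylowSplit

open Cfsg Cfsg.Agent.Char Cfsg.Agent.Blocks
open scoped IsMulCommutative

universe u

variable {G : Type u} [Group G] [Finite G]

/-- A group of automorphisms of odd order of a group of order four has order one or three. -/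
theorem card_range_four {Q : Type*} [Group Q] [Finite Q] (hQ : Nat.card Q = 4) (L : Subgroup (MulAut Q))
    (hL : ¬ 2 ∣ Nat.card L) : Nat.card L = 1 ∨ Nat.card L = 3 := by
  classical
  haveI : Fintype Q := Fintype.ofFinite Q
  let S := {q : Q // q ≠ 1}
  let f : MulAut Q →* Equiv.Perm S :=
    MonoidHom.mk' (fun a => a.toEquiv.subtypeEquiv fun q => (map_ne_one_iff a a.injective).symm)
      fun a b => Equiv.ext fun q => rfl
  have hf : Function.Injective f := fun a b h => MulEquiv.ext fun q => by
    by_cases hq : q = 1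
    · simp [hq]
    · exact congrArg Subtype.val (Equiv.congr_fun h ⟨q, hq⟩)
  have hS : Nat.card S = 3 := by
    rw [Nat.card_eq_fintype_card, Fintype.card_subtype_compl, Fintype.card_subtype_eq,
      ← Nat.card_eq_fintype_card, hQ]
  have h6 : Nat.card (Equiv.Perm S) = 6 := by rw [Nat.card_perm, hS]; rfl
  have hd : Nat.card L ∣ 6 := by
    rw [← h6, Nat.card_congr (L.equivMapOfInjective f hf).toEquiv]
    exact Subgroup.card_subgroup_dvd_card _
  rcases (Nat.Coprime.dvd_of_dvd_mul_left (Nat.coprime_two_right.2 (Nat.odd_iff.2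
    (Nat.two_dvd_ne_zero.1 hL))) (hd : Nat.card L ∣ 2 * 3) |> (Nat.dvd_prime Nat.prime_three).1) with h | h
  · exact Or.inl h
  · exact Or.inr h

variable [IsSimpleGroup G]

/-- The statement. -/
theorem eq_bot_of_index_four (hperf : commutator G = ⊤) (P : Sylow 2 G)
    (hP : IsMulCommutative (P : Subgroup G)) (R : Subgroup G) (hRP : R ≤ (P : Subgroup G))
    (hR : ∀ m ∈ Subgroup.normalizer ((P : Subgroup G) : Set G), ∀ r ∈ R, m * r * m⁻¹ ∈ R)
    (h4 : R.relIndex (P : Subgroup G) = 4) : R = ⊥ := by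
  classical
  haveI : Fact (Nat.Prime 2) := ⟨Nat.prime_two⟩
  haveI : Fintype G := Fintype.ofFinite G
  by_contra hRne
  have hcomm : ∀ x ∈ (P : Subgroup G), ∀ y ∈ (P : Subgroup G), x * y = y * x := fun x hx y hy =>
    congrArg Subtype.val (hP.is_comm.comm (⟨x, hx⟩ : (P : Subgroup G)) ⟨y, hy⟩)
  haveI := hP
  set N := Subgroup.normalizer ((P : Subgroup G) : Set G) with hN
  set R' := R.subgroupOf (P : Subgroup G) with hR'
  let α : N →* MulAut (P : Subgroup G) := (P : Subgroup G).normalizerMonoidHom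
  have hα : ∀ (m : N) (x : (P : Subgroup G)), ((α m x : (P : Subgroup G)) : G) = (m : G) * x * (m : G)⁻¹ :=
    fun m x => rfl
  have hmap : ∀ m : N, R'.map (α m).toMonoidHom = R' := fun m => by
    refine Subgroup.eq_of_le_of_card_ge ?_ (le_of_eq (Subgroup.card_map_of_injective (α m).injective).symm)
    rintro _ ⟨x, hx, rfl⟩
    exact hR _ m.2 _ hx
  let ψ : N →* MulAut ((P : Subgroup G) ⧸ R') :=
    MonoidHom.mk' (fun m => QuotientGroup.congr R' R' (α m) (hmap m)) fun m m' =>
      MulEquiv.ext fun q => QuotientGroup.induction_on q fun x => by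
        show QuotientGroup.mk' R' (α (m * m') x) = QuotientGroup.mk' R' (α m (α m' x))
        rw [map_mul]; rfl
  have hψ : ∀ (m : N) (x : (P : Subgroup G)),
      ψ m (QuotientGroup.mk' R' x) = QuotientGroup.mk' R' (α m x) := fun m x => rfl
  have hQ4 : Nat.card ((P : Subgroup G) ⧸ R') = 4 := h4
  have hQp : IsPGroup 2 ((P : Subgroup G) ⧸ R') := P.2.to_quotient R'
  have hfusion : ∀ x y : (P : Subgroup G), IsConj (x : G) (y : G) → ∃ m : N, y = α m x := by
    intro x y h
    obtain ⟨g, hg⟩ := isConj_iff.1 h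
    obtain ⟨m, hm, e⟩ := P.conj_eq_normalizer_conj_of_mem (x : G) g⁻¹ x.2 (by rw [inv_inv, hg]; exact y.2)
    refine ⟨⟨m⁻¹, inv_mem hm⟩, Subtype.ext ?_⟩
    rw [inv_inv, hg] at e
    rw [hα, e, inv_inv]
  have hPN : (P : Subgroup G) ≤ N := Subgroup.le_normalizer
  have hPα : ∀ (p : (P : Subgroup G)) (x : (P : Subgroup G)), α ⟨p, hPN p.2⟩ x = x := fun p x =>
    Subtype.ext (by rw [hα]; exact mul_inv_eq_iff_eq_mul.2 (hcomm p p.2 x x.2))
  -- images of the normaliser have odd order
  have hodd : ∀ {A : Type u} [Group A] (f : N →* A),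
      (∀ p : (P : Subgroup G), f ⟨p, hPN p.2⟩ = 1) → ¬ 2 ∣ Nat.card f.range := by
    intro A _ f hf hd
    have hle : (P : Subgroup G).subgroupOf N ≤ f.ker := fun p hp => hf ⟨(p : G), hp⟩
    have h1 : f.ker.index ∣ (P : Subgroup G).relIndex N := Subgroup.index_dvd_of_le hle
    have h2 : (P : Subgroup G).relIndex N ∣ (P : Subgroup G).index :=
      Subgroup.relIndex_dvd_index_of_le hPN
    rw [← Subgroup.index_ker] at hd
    exact P.not_dvd_index (hd.trans (h1.trans h2))
  have hψP : ∀ p : (P : Subgroup G), ψ ⟨p, hPN p.2⟩ = 1 := fun p =>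
    MulEquiv.ext fun q => QuotientGroup.induction_on q fun x => by
      show ψ ⟨p, hPN p.2⟩ (QuotientGroup.mk' R' x) = _
      rw [hψ, hPα]; rfl
  -- fixed point averaging
  let avg : Subgroup (MulAut (P : Subgroup G)) → ((P : Subgroup G) →* (P : Subgroup G)) := fun K =>
    MonoidHom.mk' (fun x => ∏ k : K, (k : MulAut (P : Subgroup G)) x) fun x y => by
      simp only [map_mul, Finset.prod_mul_distrib]
  have havg_fix : ∀ (K : Subgroup (MulAut (P : Subgroup G))) (j : MulAut (P : Subgroup G)), j ∈ K →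
      ∀ x, j (avg K x) = avg K x := fun K j hj x => by
    show j (∏ k : K, (k : MulAut (P : Subgroup G)) x) = _
    rw [map_prod]
    exact Fintype.prod_equiv (Equiv.mulLeft ⟨j, hj⟩) _ _ fun k => rfl
  have havg_inv : ∀ (K : Subgroup (MulAut (P : Subgroup G))) (j : MulAut (P : Subgroup G)), j ∈ K →
      ∀ x, avg K (j x) = avg K x := fun K j hj x =>
    Fintype.prod_equiv (Equiv.mulRight ⟨j, hj⟩) _ _ fun k => rfl
  have havg_self : ∀ (K : Subgroup (MulAut (P : Subgroup G))) (x : (P : Subgroup G)),
      (∀ j ∈ K, j x = x) → avg K x = x ^ Nat.card K := fun K x h => by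
    show ∏ k : K, (k : MulAut (P : Subgroup G)) x = _
    rw [Finset.prod_congr rfl fun k _ => h _ k.2, Finset.prod_const, Finset.card_univ,
      Nat.card_eq_fintype_card]
  have hαP : ∀ p : (P : Subgroup G), α ⟨p, hPN p.2⟩ = 1 := fun p => MulEquiv.ext (hPα p)
  -- no fixed points
  have hfix : ∀ x : (P : Subgroup G), (∀ m : N, α m x = x) → x = 1 := by
    intro x hx
    have h1 := invariant_eq_one hperf P P.2 (avg α.range) (fun a b h => by
      obtain ⟨m, rfl⟩ := hfusion a b h
      exact (havg_inv α.range (α m) ⟨m, rfl⟩ a).symm) x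
    rw [havg_self _ _ (by rintro _ ⟨m, rfl⟩; exact hx m)] at h1
    have := (P.2.powEquiv' (hodd α hαP)).injective (a₁ := x) (a₂ := 1)
      (by show x ^ Nat.card α.range = 1 ^ Nat.card α.range; rw [h1, one_pow])
    exact this
  -- the action on the quotient has order three
  have hrange : Nat.card ψ.range = 3 := by
    refine (card_range_four hQ4 ψ.range (hodd ψ hψP)).resolve_left fun h1 => ?_
    have hinv : ∀ a b : (P : Subgroup G), IsConj (a : G) (b : G) →
        QuotientGroup.mk' R' a = QuotientGroup.mk' R' b := fun a b h => by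
      obtain ⟨m, rfl⟩ := hfusion a b h
      have hm : ψ m = 1 := by
        have := Subgroup.card_eq_one.1 h1
        rw [MonoidHom.range_eq_bot_iff] at this
        rw [this]; rfl
      rw [← hψ, hm]; rfl
    have h := invariant_eq_one hperf P hQp (QuotientGroup.mk' R') hinv
    have hsub : Subsingleton ((P : Subgroup G) ⧸ R') := ⟨fun a b => by
      induction a using QuotientGroup.induction_on with | _ x => ?_
      induction b using QuotientGroup.induction_on with | _ y => ?_
      exact (h x).trans (h y).symm⟩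
    have := Finite.card_le_one_iff_subsingleton.2 hsub
    omega
  obtain ⟨n', hn'⟩ : ∃ n' : N, ψ n' ≠ 1 := by
    by_contra hne
    push Not at hne
    rw [MonoidHom.range_eq_bot_iff.2 (MonoidHom.ext fun m => by rw [hne m, MonoidHom.one_apply]),
      Subgroup.card_bot] at hrange
    omega
  have hgen : ∀ m : N, ∃ i < 3, ψ m = ψ n' ^ i := by
    intro m
    haveI : Fact (Nat.Prime 3) := ⟨Nat.prime_three⟩
    have h1 : (⟨ψ m, ⟨m, rfl⟩⟩ : ψ.range) ∈ Subgroup.zpowers (⟨ψ n', ⟨n', rfl⟩⟩ : ψ.range) :=
      mem_zpowers_of_prime_card hrange fun e => hn' (congrArg Subtype.val e)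
    rw [← mem_powers_iff_mem_zpowers] at h1
    obtain ⟨i, hi⟩ := h1
    refine ⟨i % 3, Nat.mod_lt _ (by norm_num), ?_⟩
    have h3 : orderOf (ψ n') ∣ 3 := hrange ▸ Subgroup.orderOf_dvd_natCard ψ.range ⟨n', rfl⟩
    rw [← orderOf_eq_prime (orderOf_dvd_iff_pow_eq_one.1 h3) hn', pow_mod_orderOf]
    exact (congrArg Subtype.val hi).symm
  have hn3 : ψ (n' ^ 3) = 1 := by
    rw [map_pow]
    exact orderOf_dvd_iff_pow_eq_one.1 (hrange ▸ Subgroup.orderOf_dvd_natCard ψ.range ⟨n', rfl⟩)
  -- the fixed points and the kernel of the average over the kernel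
  set K : Subgroup (MulAut (P : Subgroup G)) := ψ.ker.map α with hK
  have hKodd : ¬ 2 ∣ Nat.card K := fun hd => hodd α hαP
    (hd.trans (Subgroup.card_dvd_of_le (by rw [hK, MonoidHom.range_eq_map]; exact Subgroup.map_mono le_top)))
  have hKn : ∀ m : N, ∀ k ∈ K, (α m)⁻¹ * k * α m ∈ K := by
    rintro m _ ⟨j, hj, rfl⟩
    exact ⟨m⁻¹ * j * m, by
      rw [SetLike.mem_coe, MonoidHom.mem_ker] at hj ⊢
      rw [map_mul, map_mul, hj, mul_one, map_inv, inv_mul_cancel], by
      rw [map_mul, map_mul, map_inv]⟩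
  have heq : ∀ (m : N) (x : (P : Subgroup G)), avg K (α m x) = α m (avg K x) := by
    intro m x
    show ∏ k : K, (k : MulAut (P : Subgroup G)) (α m x) =
      α m (∏ k : K, (k : MulAut (P : Subgroup G)) x)
    rw [map_prod]
    have hKn' : ∀ k ∈ K, α m * k * (α m)⁻¹ ∈ K := fun k hk => by
      have := hKn m⁻¹ k hk
      rwa [map_inv, inv_inv] at this
    refine Fintype.prod_equiv
      ⟨fun k => ⟨(α m)⁻¹ * k * α m, hKn m k k.2⟩, fun k => ⟨α m * k * (α m)⁻¹, hKn' k k.2⟩,
        fun k => Subtype.ext (by group), fun k => Subtype.ext (by group)⟩ _ _ fun k => ?_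
    show (k : MulAut (P : Subgroup G)) (α m x) =
      α m (((α m)⁻¹ * (k : MulAut (P : Subgroup G)) * α m) x)
    simp [MulAut.mul_apply]
  set U₀ : Subgroup (P : Subgroup G) :=
    { carrier := {x | ∀ k ∈ K, k x = x}
      one_mem' := fun k _ => map_one k
      mul_mem' := fun {a b} (ha : ∀ k ∈ K, k a = a) (hb : ∀ k ∈ K, k b = b) k hk => by
        rw [map_mul, ha k hk, hb k hk]
      inv_mem' := fun {a} (ha : ∀ k ∈ K, k a = a) k hk => by rw [map_inv, ha k hk] } with hU₀
  set T₀ := (avg K).ker with hT₀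
  have hU₀m : ∀ (m : N), ∀ x ∈ U₀, α m x ∈ U₀ := fun m x (hx : ∀ k ∈ K, k x = x) k hk => by
    have h1 := congrArg (α m) (hx _ (hKn m k hk))
    simpa [MulAut.mul_apply] using h1
  have hT₀m : ∀ (m : N), ∀ x ∈ T₀, α m x ∈ T₀ := fun m x hx => by
    rw [hT₀, MonoidHom.mem_ker] at hx ⊢
    rw [heq, hx, map_one]
  let hpow := P.2.powEquiv' hKodd
  have hTR : ∀ x ∈ T₀, (x : G) ∈ R := by
    intro x hx
    have h1 : QuotientGroup.mk' R' (avg K x) = QuotientGroup.mk' R' x ^ Nat.card K := by
      show QuotientGroup.mk' R' (∏ k : K, (k : MulAut (P : Subgroup G)) x) = _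
      rw [map_prod, Finset.prod_congr rfl fun k _ => ?_, Finset.prod_const, Finset.card_univ,
        Nat.card_eq_fintype_card]
      obtain ⟨j, hj, hjk⟩ := k.2
      rw [← hjk, ← hψ, (MonoidHom.mem_ker).1 hj]
      rfl
    rw [show avg K x = 1 from hx, map_one] at h1
    have h2 := (hQp.powEquiv' hKodd).injective (a₁ := QuotientGroup.mk' R' x) (a₂ := 1) (by
      show QuotientGroup.mk' R' x ^ Nat.card K = (1 : (P : Subgroup G) ⧸ R') ^ Nat.card K
      rw [← h1, one_pow])
    exact Subgroup.mem_subgroupOf.1 ((QuotientGroup.eq_one_iff x).1 h2)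
  -- the three kinds of action
  have hkind : ∀ m : N, ∃ i < 3, ∀ x ∈ U₀, α m x = α (n' ^ i) x := by
    intro m
    obtain ⟨i, hi, he⟩ := hgen m
    refine ⟨i, hi, fun x hx => ?_⟩
    have hker : (n' ^ i)⁻¹ * m ∈ ψ.ker := by
      rw [MonoidHom.mem_ker, map_mul, map_inv, map_pow, he, inv_mul_cancel]
    have h1 : α ((n' ^ i)⁻¹ * m) x = x := hx _ ⟨_, hker, rfl⟩
    conv_lhs => rw [← mul_inv_cancel_left (n' ^ i) m, map_mul, MulAut.mul_apply, h1]
  have hcube : ∀ x ∈ U₀, α n' (α n' (α n' x)) = x := fun x hx => by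
    have h : α (n' ^ 3) x = x := hx _ ⟨_, hn3, rfl⟩
    rwa [pow_succ, pow_two, map_mul, map_mul, MulAut.mul_apply, MulAut.mul_apply] at h
  have hfpf : ∀ x ∈ U₀, α n' x = x → x = 1 := by
    intro x hx he
    refine hfix x fun m => ?_
    obtain ⟨i, hi, e⟩ := hkind m
    rw [e x hx]
    interval_cases i
    · rw [pow_zero, map_one]; rfl
    · rw [pow_one, he]
    · rw [pow_two, map_mul, MulAut.mul_apply, he, he]
  have hact : ∀ m : N, ∀ x ∈ U₀, α m x = x ∨ α m x = α n' x ∨ α m x = α n' (α n' x) := fun m x hx => by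
    obtain ⟨i, hi, e⟩ := hkind m
    rw [e x hx]
    interval_cases i
    · exact Or.inl (by rw [pow_zero, map_one]; rfl)
    · exact Or.inr (Or.inl (by rw [pow_one]))
    · exact Or.inr (Or.inr (by rw [pow_two, map_mul, MulAut.mul_apply]))
  by_cases hT : T₀ = ⊥
  swap
  · -- a proper decomposition
    set U := U₀.map (P : Subgroup G).subtype with hU
    set T := T₀.map (P : Subgroup G).subtype with hTdef
    have hsplit : Split P U T (n' : G) := by
      refine ⟨hP, Subgroup.map_subtype_le _, Subgroup.map_subtype_le _, ?_, ?_, ?_, ?_, n'.2, ?_, ?_, ?_⟩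
      · rw [hU, hTdef, ← Subgroup.map_inf _ _ _ (Subgroup.subtype_injective _),
          Subgroup.map_eq_bot_iff_of_injective _ (Subgroup.subtype_injective _), eq_bot_iff]
        rintro x hx
        obtain ⟨h1, h2⟩ := Subgroup.mem_inf.1 hx
        rw [hT₀, MonoidHom.mem_ker, havg_self K x h1] at h2
        exact Subgroup.mem_bot.2 (hpow.injective (a₁ := x) (a₂ := 1) (by
          show x ^ Nat.card K = 1 ^ Nat.card K; rw [h2, one_pow]))
      · intro x hx
        set d := hpow.symm (avg K ⟨x, hx⟩) with hd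
        have hdp : d ^ Nat.card K = avg K ⟨x, hx⟩ := hpow.apply_symm_apply _
        have hdU : d ∈ U₀ := fun k hk => hpow.injective (by
          show (k d) ^ Nat.card K = d ^ Nat.card K
          rw [← map_pow, hdp]
          exact havg_fix K k hk _)
        refine ⟨d, ⟨d, hdU, rfl⟩, (d⁻¹ * ⟨x, hx⟩ : (P : Subgroup G)), ⟨d⁻¹ * ⟨x, hx⟩, ?_, rfl⟩, by simp⟩
        rw [SetLike.mem_coe, hT₀, MonoidHom.mem_ker, map_mul, map_inv, havg_self K d hdU, hdp,
          inv_mul_cancel]
      · rintro m hm _ ⟨x, hx, rfl⟩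
        exact ⟨α ⟨m, hm⟩ x, hU₀m _ x hx, rfl⟩
      · rintro m hm _ ⟨x, hx, rfl⟩
        exact ⟨α ⟨m, hm⟩ x, hT₀m _ x hx, rfl⟩
      · rintro _ ⟨x, hx, rfl⟩ he
        exact congrArg Subtype.val (hfpf x hx (Subtype.ext he))
      · rintro _ ⟨x, hx, rfl⟩
        exact congrArg Subtype.val (hcube x hx)
      · intro m hm
        obtain ⟨i, hi, e⟩ := hkind ⟨m, hm⟩
        interval_cases i
        · refine Or.inl ?_
          rintro _ ⟨x, hx, rfl⟩
          exact congrArg Subtype.val ((e x hx).trans (by rw [pow_zero, map_one]; rfl))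
        · refine Or.inr (Or.inl ?_)
          rintro _ ⟨x, hx, rfl⟩
          exact congrArg Subtype.val ((e x hx).trans (by rw [pow_one]) : α ⟨m, hm⟩ x = α n' x)
        · refine Or.inr (Or.inr ?_)
          rintro _ ⟨x, hx, rfl⟩
          exact congrArg Subtype.val ((e x hx).trans (by rw [pow_two, map_mul, MulAut.mul_apply]) :
            α ⟨m, hm⟩ x = α n' (α n' x))
    refine hsplit.false (fun h => ?_) fun h => hT ?_
    · rw [hU, Subgroup.map_eq_bot_iff_of_injective _ (Subgroup.subtype_injective _)] at h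
      have hle : (P : Subgroup G) ≤ R := fun x hx => by
        obtain ⟨u, ⟨u', hu', rfl⟩, r, ⟨r', hr', rfl⟩, e⟩ := hsplit.sup x hx
        rw [h, SetLike.mem_coe, Subgroup.mem_bot] at hu'
        rw [← e, hu', map_one, one_mul]
        exact hTR r' hr'
      rw [Subgroup.relIndex_eq_one.2 hle] at h4
      norm_num at h4
    · rw [hTdef, Subgroup.map_eq_bot_iff_of_injective _ (Subgroup.subtype_injective _)] at h
      exact h
  -- the whole group is moved freely
  have hU₀top : ∀ x, x ∈ U₀ := by
    intro x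
    set d := hpow.symm (avg K x) with hd
    have hdp : d ^ Nat.card K = avg K x := hpow.apply_symm_apply _
    have hdU : d ∈ U₀ := fun k hk => hpow.injective (by
      show (k d) ^ Nat.card K = d ^ Nat.card K
      rw [← map_pow, hdp]
      exact havg_fix K k hk _)
    have : d⁻¹ * x ∈ T₀ := by
      rw [hT₀, MonoidHom.mem_ker, map_mul, map_inv, havg_self K d hdU, hdp, inv_mul_cancel]
    rw [hT, Subgroup.mem_bot, inv_mul_eq_one] at this
    exact this ▸ hdU
  by_cases hel : ∀ x : (P : Subgroup G), x * x = 1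
  · -- a four group complementing the subgroup
    obtain ⟨x, hx⟩ : ∃ x : (P : Subgroup G), x ∉ R' := by
      by_contra hne
      push Not at hne
      rw [Subgroup.relIndex, ← hR', (Subgroup.eq_top_iff' R').2 hne, Subgroup.index_top] at h4
      norm_num at h4
    set y := α n' x with hy
    set z := α n' y with hz
    have hzn : α n' z = x := hcube x (hU₀top x)
    have hxyz : x * y * z = 1 := hfpf _ (hU₀top _) (by
      rw [map_mul, map_mul, hzn, ← hy, ← hz, mul_comm, ← mul_assoc])
    have hzxy : z = x * y := by rw [← inv_eq_of_mul_eq_one_left hxyz, inv_eq_of_mul_eq_one_left (hel z)]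
    have hn_mem : ∀ w, w ∈ R' → α n' w ∈ R' := fun w hw => hR _ n'.2 _ hw
    have hxR : x ∉ R' := hx
    have hzR : z ∉ R' := fun h => hxR (hzn ▸ hn_mem z h)
    have hyR : y ∉ R' := fun h => hzR (hn_mem y h)
    let U' : Subgroup (P : Subgroup G) :=
      { carrier := {1, x, y, z}
        one_mem' := Or.inl rfl
        mul_mem' := fun {a b} ha hb => by
          have e1 : y * x = z := by rw [mul_comm, hzxy]
          have e2 : x * z = y := by rw [hzxy, ← mul_assoc, hel x, one_mul]
          have e3 : z * x = y := by rw [mul_comm, e2]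
          have e4 : y * z = x := by rw [hzxy, mul_comm x y, ← mul_assoc, hel y, one_mul]
          have e5 : z * y = x := by rw [mul_comm, e4]
          simp only [Set.mem_insert_iff, Set.mem_singleton_iff] at ha hb ⊢
          rcases ha with rfl | rfl | rfl | rfl <;> rcases hb with rfl | rfl | rfl | rfl <;>
            simp [e1, e2, e3, e4, e5, hel, ← hzxy]
        inv_mem' := fun {a} ha => by rwa [inv_eq_of_mul_eq_one_left (hel a)] }
    have hU'R : ∀ w ∈ U', w ∈ R' → w = 1 := by
      intro w hw hwR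
      rcases hw with rfl | rfl | rfl | rfl
      · rfl
      · exact absurd hwR hxR
      · exact absurd hwR hyR
      · exact absurd hwR hzR
    have hU'n : ∀ w ∈ U', α n' w ∈ U' := by
      intro w hw
      rcases hw with rfl | rfl | rfl | rfl
      · rw [map_one]; exact one_mem U'
      · exact Or.inr (Or.inr (Or.inl rfl))
      · exact Or.inr (Or.inr (Or.inr rfl))
      · exact Or.inr (Or.inl hzn)
    set U := U'.map (P : Subgroup G).subtype with hU
    have hsplit : Split P U R (n' : G) := by
      refine ⟨hP, Subgroup.map_subtype_le _, hRP, ?_, ?_, ?_, hR, n'.2, ?_, ?_, ?_⟩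
      · rw [eq_bot_iff]
        intro w hw
        obtain ⟨⟨w', hw', rfl⟩, hwR⟩ := Subgroup.mem_inf.1 hw
        rw [Subgroup.mem_bot, hU'R w' hw' hwR, map_one]
      · intro w hw
        have hU'card : Nat.card U' = 4 := by
          have hinj : Function.Injective ((QuotientGroup.mk' R').comp U'.subtype) := by
            rw [injective_iff_map_eq_one]
            exact fun a ha => Subtype.ext (hU'R a a.2 ((QuotientGroup.eq_one_iff (a : (P : Subgroup G))).1 ha))
          refine le_antisymm (hQ4 ▸ Nat.card_le_card_of_injective _ hinj) ?_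
          have n1 : x ≠ y := fun e => hxR (by rw [hfpf x (hU₀top x) e.symm]; exact one_mem R')
          have n2 : y ≠ z := fun e => hyR (by rw [hfpf y (hU₀top y) e.symm]; exact one_mem R')
          have n3 : z ≠ x := fun e => hzR (by rw [hfpf z (hU₀top z) (hzn.trans e.symm)]; exact one_mem R')
          have n4 : (1 : (P : Subgroup G)) ≠ x := fun e => hxR (e ▸ one_mem R')
          have n5 : (1 : (P : Subgroup G)) ≠ y := fun e => hyR (e ▸ one_mem R')
          have n6 : (1 : (P : Subgroup G)) ≠ z := fun e => hzR (e ▸ one_mem R')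
          have hsub : (({1, x, y, z} : Finset (P : Subgroup G)) : Set (P : Subgroup G)) ⊆ U' := by
            intro w hw'
            show w ∈ ({1, x, y, z} : Set (P : Subgroup G))
            simpa using hw'
          have h5 := Set.ncard_le_ncard hsub
          rw [Set.ncard_coe_finset, Finset.card_insert_of_notMem (by simp [n4, n5, n6]),
            Finset.card_insert_of_notMem (by simp [n1, n3.symm]), Finset.card_pair n2,
            ← Nat.card_coe_set_eq] at h5
          exact h5
        have hsurj : Function.Surjective ((QuotientGroup.mk' R').comp U'.subtype) := by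
          refine ((Nat.bijective_iff_injective_and_card _).2 ⟨?_, hU'card.trans hQ4.symm⟩).2
          rw [injective_iff_map_eq_one]
          exact fun a ha => Subtype.ext (hU'R a a.2 ((QuotientGroup.eq_one_iff (a : (P : Subgroup G))).1 ha))
        obtain ⟨a, ha⟩ := hsurj (QuotientGroup.mk' R' ⟨w, hw⟩)
        refine ⟨_, ⟨a, a.2, rfl⟩, _, ?_, mul_inv_cancel_left ((a : (P : Subgroup G)) : G) w⟩
        exact Subgroup.mem_subgroupOf.1 (QuotientGroup.eq.1 ha)
      · rintro m hm _ ⟨w, hw, rfl⟩
        refine ⟨α ⟨m, hm⟩ w, ?_, rfl⟩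
        rcases hact ⟨m, hm⟩ w (hU₀top w) with e | e | e <;> rw [e]
        · exact hw
        · exact hU'n w hw
        · exact hU'n _ (hU'n w hw)
      · rintro _ ⟨w, -, rfl⟩ he
        exact congrArg Subtype.val (hfpf w (hU₀top w) (Subtype.ext he))
      · rintro _ ⟨w, -, rfl⟩
        exact congrArg Subtype.val (hcube w (hU₀top w))
      · intro m hm
        obtain ⟨i, hi, e⟩ := hkind ⟨m, hm⟩
        interval_cases i
        · refine Or.inl ?_
          rintro _ ⟨w, -, rfl⟩
          exact congrArg Subtype.val ((e w (hU₀top w)).trans (by rw [pow_zero, map_one]; rfl))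
        · refine Or.inr (Or.inl ?_)
          rintro _ ⟨w, -, rfl⟩
          exact congrArg Subtype.val ((e w (hU₀top w)).trans (by rw [pow_one]) : α ⟨m, hm⟩ w = α n' w)
        · refine Or.inr (Or.inr ?_)
          rintro _ ⟨w, -, rfl⟩
          exact congrArg Subtype.val ((e w (hU₀top w)).trans (by rw [pow_two, map_mul, MulAut.mul_apply]) :
            α ⟨m, hm⟩ w = α n' (α n' w))
    refine hsplit.false (fun h => ?_) hRne
    rw [hU, Subgroup.map_eq_bot_iff_of_injective _ (Subgroup.subtype_injective _)] at h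
    have hxU : x ∈ U' := Or.inr (Or.inl rfl)
    rw [h, Subgroup.mem_bot] at hxU
    exact hxR (hxU ▸ one_mem R')
  -- a linear character
  push Not at hel
  obtain ⟨M, hM⟩ := Cfsg.Agent.Blocks.exists_isPModular_witness 2
  haveI : M.IsPrime := hM.2.1.isPrime
  haveI : Nontrivial (P : Subgroup G) := by
    obtain ⟨x, hx⟩ := hel
    exact ⟨x, 1, fun e => hx (by rw [e, one_mul])⟩
  obtain ⟨j, hj0, hj⟩ := P.2.nontrivial_iff_card.1 inferInstance
  have hlarge : 16 ∣ Nat.card (P : Subgroup G) := by
    rw [hj]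
    refine (pow_dvd_pow 2 (show 4 ≤ j from ?_))
    have hmul := R'.index_mul_card
    rw [show R'.index = 4 from h4] at hmul
    have hR2 : 2 ≤ Nat.card R' := by
      have : Nat.card R' = Nat.card R := Nat.card_congr (Subgroup.subgroupOfEquivOfLe hRP).toEquiv
      rw [this]
      exact (Subgroup.one_lt_card_iff_ne_bot R).2 hRne
    have h8 : 2 ^ 3 ≤ 2 ^ j := by rw [← hj, ← hmul]; omega
    have h3 : 3 ≤ j := (Nat.pow_le_pow_iff_right (by norm_num)).1 h8
    rcases eq_or_lt_of_le h3 with h | h
    · exfalso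
      let f : Function.End (P : Subgroup G) := fun x => α n' x
      haveI : Fact (Nat.Prime 3) := ⟨Nat.prime_three⟩
      have hf : f ^ 3 ^ 1 = 1 := funext fun x => hcube x (hU₀top x)
      have h5 := Equiv.Perm.card_fixedPoints_modEq hf
      have h6 : Fintype.card f.fixedPoints = 1 := Fintype.card_eq_one_iff.2
        ⟨⟨1, map_one (α n')⟩, fun p => Subtype.ext (hfpf p (hU₀top p) p.2)⟩
      rw [h6, ← Nat.card_eq_fintype_card, hj, ← h] at h5
      exact absurd h5 (by decide)
    · omega
  have hfus : ∀ x y : (P : Subgroup G), IsConj (x : G) (y : G) →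
      y = x ∨ y = α n' x ∨ y = α n' (α n' x) := fun x y h => by
    obtain ⟨m, rfl⟩ := hfusion x y h
    exact hact m x (hU₀top x)
  have hF : Homocyclic.Fused P (α n') := by
    refine ⟨fun x y => Subtype.ext (hcomm x x.2 y y.2), fun x => hcube x (hU₀top x),
      fun x => hfpf x (hU₀top x), fun x => isConj_iff.2 ⟨n', rfl⟩, hfus, hlarge, hel, ?_, ?_, ?_⟩
    · obtain ⟨v, hv⟩ := exists_prime_orderOf_dvd_card' (G := (P : Subgroup G)) 2
        (hj ▸ dvd_pow_self 2 (by omega))
      exact ⟨v, mul_self_of_two hv, fun e => by simp [e] at hv⟩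
    all_goals
      intro x hx
      set C := Subgroup.centralizer ({(x : G)} : Set G) with hC
      have hPC : (P : Subgroup G) ≤ C := fun y hy =>
        Subgroup.mem_centralizer_singleton_iff.2 (hcomm y hy x x.2)
      set Q : Sylow 2 C := P.subtype hPC with hQ
      have hQP : Nat.card (Q : Subgroup C) = Nat.card (P : Subgroup G) :=
        Nat.card_congr (Subgroup.subgroupOfEquivOfLe hPC).toEquiv
    · have hle : Subgroup.normalizer ((Q : Subgroup C) : Set C) ≤
          Subgroup.centralizer ((Q : Subgroup C) : Set C) := by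
        intro m hm
        have hmG : (m : G) ∈ N := by
          refine Subgroup.mem_normalizer_iff.2 fun y => ⟨fun hy => ?_, fun hy => ?_⟩
          · exact (Subgroup.mem_normalizer_iff.1 hm ⟨y, hPC hy⟩).1 hy
          · have hyC : y ∈ C := by
              have h1 : (m : G)⁻¹ * ((m : G) * y * (m : G)⁻¹) * m ∈ C :=
                mul_mem (mul_mem (inv_mem m.2) (hPC hy)) m.2
              simpa [mul_assoc] using h1
            exact (Subgroup.mem_normalizer_iff.1 hm ⟨y, hyC⟩).2 hy
        have hfixx : α ⟨m, hmG⟩ x = x := Subtype.ext (by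
          rw [hα]
          exact mul_inv_eq_iff_eq_mul.2 (Subgroup.mem_centralizer_singleton_iff.1 m.2))
        refine Subgroup.mem_centralizer_iff.2 fun y hy => Subtype.ext ?_
        show (y : G) * m = m * y
        obtain ⟨i, hi, e⟩ := hkind ⟨m, hmG⟩
        have hi0 : i = 0 := by
          rw [e x (hU₀top x)] at hfixx
          interval_cases i
          · rfl
          · exact absurd (hfpf x (hU₀top x) (by rwa [pow_one] at hfixx)) hx
          · rw [pow_two, map_mul, MulAut.mul_apply] at hfixx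
            have := congrArg (α n') hfixx
            rw [hcube x (hU₀top x)] at this
            exact absurd (hfpf x (hU₀top x) this.symm) hx
        subst hi0
        have h := congrArg Subtype.val (e ⟨y, hy⟩ (hU₀top _))
        rw [hα, pow_zero, map_one] at h
        exact (mul_inv_eq_iff_eq_mul.1 h).symm
      obtain ⟨Q', K', hK', hKc⟩ := Cfsg.Agent.Fusion.hasNormalPComplement_of_normalizer_le_centralizer Q hle
      refine ⟨K', hK', ?_, ?_⟩
      · rw [← hKc.index_eq_card]
        exact Q'.not_dvd_index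
      · obtain ⟨k, hk⟩ := IsPGroup.iff_card.1 Q'.2
        exact ⟨k, by rw [hKc.symm.index_eq_card, hk]⟩
    · rw [← Q.card_eq_multiplicity, hQP]
  obtain ⟨χ, hχ1, hχd, hχP⟩ := Homocyclic.exists_linear hF hM
  obtain ⟨v, hv⟩ := exists_prime_orderOf_dvd_card' (G := (P : Subgroup G)) 2 (hj ▸ dvd_pow_self 2 (by omega))
  refine BrauerSuzuki.false_of_value_eq χ hχ1 (z := (v : G)) (fun L hL hvL => ?_)
    (by rw [hχP _ v.2, hχd])
  refine (hL.eq_bot_or_eq_top).resolve_left fun e => ?_
  rw [e, Subgroup.mem_bot] at hvL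
  rw [← Subgroup.orderOf_coe, hvL, orderOf_one] at hv
  omega

end Cfsg.Agent.SylowSplit
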