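import Cfsg.Agent.Lib.BrauerSuzuki.ZStar
import Cfsg.Agent.Lib.Blocks.Section

/-!
A central, strongly closed part of a Sylow 2-subgroup.
-/

set_option autoImplicit false
set_option linter.unusedSectionVars false
set_option linter.style.haveILetI false

namespace Cfsg.Agent.SylowSplit

open Cfsg Cfsg.Agent.Blocks

universe u

variable {G : Type u} [Group G]

/-- Some conjugate of `y` lies in `R`. -/
def InR (R : Subgroup G) (y : G) : Prop := ∃ g : G, g * y * g⁻¹ ∈ R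

/-- `R` is central and strongly closed in the Sylow subgroup `P`. -/
structure Closed (P : Sylow 2 G) (R : Subgroup G) : Prop where
  le : R ≤ (P : Subgroup G)
  central : ∀ x ∈ R, ∀ y ∈ (P : Subgroup G), Commute x y
  closed : ∀ x ∈ R, ∀ g : G, g * x * g⁻¹ ∈ (P : Subgroup G) → g * x * g⁻¹ ∈ R

theorem InR.conj {R : Subgroup G} {y : G} (h : InR R y) (k : G) : InR R (k * y * k⁻¹) := by
  obtain ⟨g, hg⟩ := h
  refine ⟨g * k⁻¹, ?_⟩
  rwa [show g * k⁻¹ * (k * y * k⁻¹) * (g * k⁻¹)⁻¹ = g * y * g⁻¹ by group]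

theorem InR.of_conj {R : Subgroup G} {y : G} {k : G} (h : InR R (k * y * k⁻¹)) : InR R y := by
  have := h.conj k⁻¹
  rwa [show k⁻¹ * (k * y * k⁻¹) * k⁻¹⁻¹ = y by group] at this

theorem InR.of_mem {R : Subgroup G} {y : G} (h : y ∈ R) : InR R y := ⟨1, by simpa using h⟩

theorem orderOf_two {x : G} (h : x * x = 1) (h1 : x ≠ 1) : orderOf x = 2 :=
  orderOf_eq_prime (by rw [pow_two, h]) h1

theorem mul_self_of_two {x : G} (h : orderOf x = 2) : x * x = 1 := by
  rw [← pow_two, ← h]; exact pow_orderOf_eq_one x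

theorem isPGroup_zpowers {x : G} (hx : ∃ k, orderOf x = 2 ^ k) :
    IsPGroup 2 (Subgroup.zpowers x) := by
  obtain ⟨k, hk⟩ := hx
  exact IsPGroup.of_card (n := k) (by rw [Nat.card_zpowers, hk])

theorem two_elt_conj {x : G} (hx : ∃ k, orderOf x = 2 ^ k) (g : G) :
    ∃ k, orderOf (g * x * g⁻¹) = 2 ^ k := by
  obtain ⟨k, hk⟩ := hx
  exact ⟨k, (BrauerSuzuki.orderOf_conj_eq g x).trans hk⟩

theorem two_elt_of_mem {T : Subgroup G} (hT : IsPGroup 2 T) [Finite G] {x : G} (hx : x ∈ T) :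
    ∃ k, orderOf x = 2 ^ k := by
  haveI : Fact (Nat.Prime 2) := ⟨Nat.prime_two⟩
  obtain ⟨k, hk⟩ := IsPGroup.iff_orderOf.1 hT ⟨x, hx⟩
  exact ⟨k, by rwa [Subgroup.orderOf_mk] at hk⟩

/-- Two elements of 2-power order, the first normalising the group of the second. -/
theorem pGroup_pair [Finite G] {x y : G} (hx : ∃ k, orderOf x = 2 ^ k)
    (hy : ∃ k, orderOf y = 2 ^ k) (h : x * y * x⁻¹ ∈ Subgroup.zpowers y) :
    IsPGroup 2 (Subgroup.zpowers x ⊔ Subgroup.zpowers y : Subgroup G) := by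
  refine IsPGroup.to_sup_of_normal_right' (isPGroup_zpowers hx) (isPGroup_zpowers hy) ?_
  rw [Subgroup.zpowers_le]
  have hmap : (Subgroup.zpowers y).map (MulAut.conj x).toMonoidHom = Subgroup.zpowers y := by
    refine Subgroup.eq_of_le_of_card_ge ?_ (le_of_eq ?_)
    · rw [MonoidHom.map_zpowers, Subgroup.zpowers_le]
      exact h
    · exact (Subgroup.card_map_of_injective (MulAut.conj x).injective).symm
  refine Subgroup.mem_normalizer_iff.2 fun z => ⟨fun hz => ?_, fun hz => ?_⟩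
  · exact hmap ▸ ⟨z, hz, rfl⟩
  · have hz' : x * z * x⁻¹ ∈ (Subgroup.zpowers y).map (MulAut.conj x).toMonoidHom := by
      rw [hmap]; exact hz
    obtain ⟨z', hz', e⟩ := hz'
    have : z' = z := (MulAut.conj x).injective e
    exact this ▸ hz'

variable [Finite G]

theorem exists_conj_le (P : Sylow 2 G) {T : Subgroup G} (hT : IsPGroup 2 T) :
    ∃ k : G, ∀ t ∈ T, k * t * k⁻¹ ∈ (P : Subgroup G) := by
  haveI : Fact (Nat.Prime 2) := ⟨Nat.prime_two⟩
  obtain ⟨S, hS⟩ := hT.exists_le_sylow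
  obtain ⟨k, hk⟩ := MulAction.exists_smul_eq G S P
  refine ⟨k, fun t ht => ?_⟩
  rw [← hk, Sylow.coe_subgroup_smul]
  exact Subgroup.smul_mem_pointwise_smul t (MulAut.conj k) _ (hS ht)

theorem exists_conj_mem (P : Sylow 2 G) {x : G} (hx : ∃ k, orderOf x = 2 ^ k) :
    ∃ k : G, k * x * k⁻¹ ∈ (P : Subgroup G) := by
  obtain ⟨k, hk⟩ := exists_conj_le P (isPGroup_zpowers hx)
  exact ⟨k, hk x (Subgroup.mem_zpowers x)⟩

theorem exists_conj_mem_pair (P : Sylow 2 G) {x y : G} (hx : ∃ k, orderOf x = 2 ^ k)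
    (hy : ∃ k, orderOf y = 2 ^ k) (h : Commute x y) :
    ∃ k : G, k * x * k⁻¹ ∈ (P : Subgroup G) ∧ k * y * k⁻¹ ∈ (P : Subgroup G) := by
  obtain ⟨k, hk⟩ := exists_conj_le P (pGroup_pair hx hy
    (by rw [h.eq, mul_inv_cancel_right]; exact Subgroup.mem_zpowers y))
  exact ⟨k, hk x (Subgroup.mem_sup_left (Subgroup.mem_zpowers x)),
    hk y (Subgroup.mem_sup_right (Subgroup.mem_zpowers y))⟩

namespace Closed

variable {P : Sylow 2 G} {R : Subgroup G}

theorem mem (S : Closed P R) {y : G} (hy : y ∈ (P : Subgroup G)) (h : InR R y) : y ∈ R := by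
  obtain ⟨g, hg⟩ := h
  have h1 := S.closed _ hg g⁻¹
    (by rwa [show g⁻¹ * (g * y * g⁻¹) * g⁻¹⁻¹ = y by group])
  rwa [show g⁻¹ * (g * y * g⁻¹) * g⁻¹⁻¹ = y by group] at h1

theorem two_elt (S : Closed P R) {y : G} (h : InR R y) : ∃ k, orderOf y = 2 ^ k := by
  obtain ⟨g, hg⟩ := h
  obtain ⟨k, hk⟩ := two_elt_of_mem P.2 (S.le hg)
  exact ⟨k, by rwa [BrauerSuzuki.orderOf_conj_eq] at hk⟩

/-- An element fused into `R` centralises every 2-group containing it. -/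
theorem commute_of_pGroup (S : Closed P R) {T : Subgroup G} (hT : IsPGroup 2 T) {x y : G}
    (hx : x ∈ T) (hy : y ∈ T) (h : InR R x) : Commute x y := by
  obtain ⟨k, hk⟩ := exists_conj_le P hT
  have h1 := (S.central _ (S.mem (hk x hx) (h.conj k)) _ (hk y hy)).map (MulAut.conj k⁻¹).toMonoidHom
  simpa [mul_assoc] using h1

theorem inR_mul (S : Closed P R) {x y : G} (hx : InR R x) (hy : InR R y) (h : Commute x y) :
    InR R (x * y) := by
  obtain ⟨k, h1, h2⟩ := exists_conj_mem_pair P (S.two_elt hx) (S.two_elt hy) h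
  refine ⟨k, ?_⟩
  rw [← conj_mul]
  exact mul_mem (S.mem h1 (hx.conj k)) (S.mem h2 (hy.conj k))

/-- A product of an involution with an involution fused into `R`. -/
theorem product_form (S : Closed P R) {a b : G} (ha : orderOf a = 2) (hb : orderOf b = 2)
    (hR : InR R b) :
    ∃ y w b' : G, a * b = y * w ∧ IsPPart 2 (a * b) y ∧ y = a * b' ∧ IsConj b b' ∧ Commute a b' ∧
      Commute w y ∧ a * w * a⁻¹ = w⁻¹ ∧ Odd (orderOf w) := by
  have ha2 := mul_self_of_two ha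
  have hb2 := mul_self_of_two hb
  have hai : a⁻¹ = a := inv_eq_of_mul_eq_one_right ha2
  have hbi : b⁻¹ = b := inv_eq_of_mul_eq_one_right hb2
  obtain ⟨X, hX⟩ : ∃ X, X = a * b := ⟨_, rfl⟩
  rw [← hX]
  have hbX : b = a * X := by rw [hX, ← mul_assoc, ha2, one_mul]
  have hinva : a * X * a⁻¹ = X⁻¹ := by
    rw [hX, mul_inv_rev, hai, hbi, ← mul_assoc a a, ha2, one_mul]
  have hinvb : b * X * b⁻¹ = X⁻¹ := by
    rw [hX, mul_inv_rev, hai, hbi, mul_assoc b (a * b), mul_assoc a b, hb2, mul_one]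
  obtain ⟨k, m, hm, hord⟩ := Nat.exists_eq_two_pow_mul_odd (orderOf_pos X).ne'
  have hm0 : 0 < m := hm.pos
  have hy0 : orderOf (X ^ m) = 2 ^ k := by
    rw [orderOf_pow_of_dvd hm0.ne' (hord ▸ dvd_mul_left m _), hord, Nat.mul_div_cancel _ hm0]
  have hinvm : b * X ^ m * b⁻¹ = (X ^ m)⁻¹ := by rw [← conj_pow, hinvb, inv_pow]
  have hcom : Commute b (X ^ m) := S.commute_of_pGroup
    (pGroup_pair ⟨1, hb.trans (pow_one 2).symm⟩ ⟨k, hy0⟩
      (by rw [hinvm]; exact inv_mem (Subgroup.mem_zpowers _)))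
    (Subgroup.mem_sup_left (Subgroup.mem_zpowers b))
    (Subgroup.mem_sup_right (Subgroup.mem_zpowers _)) hR
  have hy2 : X ^ m * X ^ m = 1 := by
    have h1 : X ^ m = (X ^ m)⁻¹ := by rw [← hinvm, hcom.eq, mul_inv_cancel_right]
    nth_rw 2 [h1]
    exact mul_inv_cancel _
  have h2m : X ^ (2 * m) = 1 := by rw [two_mul, pow_add, hy2]
  obtain ⟨j, hj⟩ := hm
  have hwodd : Odd (orderOf (X ^ (m + 1))) := by
    have h1 : orderOf (X ^ (m + 1)) ∣ m := orderOf_dvd_of_pow_eq_one (by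
      rw [← pow_mul, show (m + 1) * m = (2 * m) * (j + 1) by rw [hj]; ring, pow_mul, h2m, one_pow])
    exact Odd.of_dvd_nat ⟨j, hj⟩ h1
  have hcw : Commute (X ^ (m + 1)) (X ^ m) := (Commute.refl X).pow_pow _ _
  have hmw : X ^ m * X ^ (m + 1) = X := by
    rw [← pow_add, show m + (m + 1) = 2 * m + 1 by ring, pow_succ, h2m, one_mul]
  have hawa : ∀ i, a * X ^ i * a⁻¹ = (X ^ i)⁻¹ := fun i => by rw [← conj_pow, hinva, inv_pow]
  refine ⟨X ^ m, X ^ (m + 1), a * X ^ m, hmw.symm,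
    ⟨X ^ (m + 1), hmw, hcw.symm, ⟨k, hy0⟩, fun h => (Nat.not_even_iff_odd.2 hwodd) (even_iff_two_dvd.2 h)⟩,
    by rw [← mul_assoc, ha2, one_mul], isConj_iff.2 ⟨(X ^ j)⁻¹, ?_⟩, ?_, hcw, hawa _, hwodd⟩
  · have e : (X ^ j)⁻¹ = a * X ^ j * a⁻¹ := (hawa j).symm
    calc (X ^ j)⁻¹ * b * (X ^ j)⁻¹⁻¹ = a * X ^ j * a⁻¹ * (a * X) * X ^ j := by
          rw [inv_inv, hbX, ← e]
      _ = a * (X ^ j * X * X ^ j) := by group
      _ = a * X ^ m := by rw [← pow_succ, ← pow_add, hj]; congr 2; omega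
  · have e : a * X ^ m = X ^ m * a := by
      have h1 := hawa m
      rw [inv_eq_of_mul_eq_one_right hy2] at h1
      exact mul_inv_eq_iff_eq_mul.1 h1
    exact (Commute.refl a).mul_right e

end Closed

/-- An inverted element of odd order lies in the odd core, given that the inverting element is
central modulo it. -/
theorem mem_pPrimeCore_of_inverted {C : Type u} [Group C] [Finite C] {a w : C}
    (h : InZStar 2 a) (hw : a * w * a⁻¹ = w⁻¹) (hodd : Odd (orderOf w)) : w ∈ pPrimeCore 2 C := by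
  haveI : Fact (Nat.Prime 2) := ⟨Nat.prime_two⟩
  have h1 : w ^ 2 ∈ pPrimeCore 2 C := by
    have e : w * a * w⁻¹ * a⁻¹ = w ^ 2 := by
      calc w * a * w⁻¹ * a⁻¹ = w * (a * w⁻¹ * a⁻¹) := by group
        _ = w ^ 2 := by rw [← conj_inv, hw, inv_inv, pow_two]
    exact e ▸ h w
  obtain ⟨j, hj⟩ := hodd
  have e : w = (w ^ 2) ^ (j + 1) := by
    rw [← pow_mul, show 2 * (j + 1) = orderOf w + 1 by omega, pow_succ, pow_orderOf_eq_one, one_mul]
  rw [e]
  exact pow_mem h1 _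

end Cfsg.Agent.SylowSplit
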